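import Groth.Agent.Lib.FormalCompl.TildeHom
import Groth.Agent.Lib.Adic.Limit

/-!
# The sections of the completion over an affine open are adically complete (helper5)

Without Noetherian hypotheses: the ideal is only assumed finitely generated.
-/

set_option autoImplicit false
set_option linter.style.haveILetI false

universe u

open CategoryTheory CategoryTheory.Limits AlgebraicGeometry TopologicalSpace Opposite
open Groth.Agent.H30 Groth.Agent.H30.RealLimSec
open Groth.Agent.Lib Groth.Agent.Lib.FormalCompl.Sec Groth.Agent.Lib.FormalCompl.TildeHom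

namespace Groth.Agent.Lib.FormalCompl.AffineLevels

/-- A limit of the quotients of a module by the powers of an ideal is such a system. -/
theorem isSys_of_tower {A : Type u} [CommRing A] {I : Ideal A} {N : Type u} [AddCommGroup N]
    [Module A N] {M : ℕ → Type u} [∀ n, AddCommGroup (M n)] [∀ n, Module A (M n)]
    (f : ∀ n, M (n + 1) →ₗ[A] M n) {L : Type u} [AddCommGroup L] [Module A L]
    (π : ∀ n, L →ₗ[A] M n) (q : ∀ n, N →ₗ[A] M n) (hq : ∀ n, Function.Surjective (q n))
    (hker : ∀ n, LinearMap.ker (q n) = I ^ (n + 1) • (⊤ : Submodule A N))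
    (hfq : ∀ n x, f n (q (n + 1) x) = q n x) (hπ : ∀ n, f n ∘ₗ π (n + 1) = π n)
    (hinj : ∀ x, (∀ n, π n x = 0) → x = 0)
    (hlift : ∀ y : (∀ n, M n), (∀ n, f n (y (n + 1)) = y n) → ∃ x, ∀ n, π n x = y n) :
    Adic.Limit.IsSys I f π where
  hf n y := by
    obtain ⟨x, rfl⟩ := hq n y
    exact ⟨_, hfq n x⟩
  hker n := by
    rw [← LinearMap.range_eq_top.2 (hq (n + 1)), ← Submodule.map_top, ← Submodule.map_smul'']
    refine le_antisymm (fun y hy => ?_) ?_
    · obtain ⟨x, rfl⟩ := hq (n + 1) y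
      rw [LinearMap.mem_ker, hfq, ← LinearMap.mem_ker, hker] at hy
      exact Submodule.mem_map_of_mem hy
    · rintro _ ⟨x, hx, rfl⟩
      rw [LinearMap.mem_ker, hfq, ← LinearMap.mem_ker, hker]
      exact hx
  hπ := hπ
  hinj := hinj
  hlift := hlift

variable {X : Scheme.{u}} {𝔛 : FSch.Sys.{u}} (h : 𝔛.IsFormal)
  (p : ∀ n, 𝔛.X n ⟶ X) (hp : ∀ n, 𝔛.ι n ≫ p (n + 1) = p n)

/-- Functions on the trace of `U` as an algebra over functions on `U`. -/
@[reducible] noncomputable def algA (U : X.Opens) : Algebra Γ(X, U) (Levels.A 𝔛 h (ComplSec.pre p U)) :=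
  (shA h p hp U).toAlgebra

/-- Sections over the trace of `U` as a module over functions on `U`. -/
@[reducible] noncomputable def secMod (F : FSch.ModF 𝔛 h) (U : X.Opens) :
    Module Γ(X, U) (sec h F (ComplSec.pre p U)) :=
  Module.compHom _ (shA h p hp U)

variable [∀ k, IsClosedImmersion (p k)]

theorem surjective_appLE (k : ℕ) {U : X.Opens} (hU : IsAffineOpen U) :
    Function.Surjective ((p k).appLE U _ (ComplSec.lvU_pre h p hp k U).le) := by
  intro y
  obtain ⟨r, hr⟩ := Scheme.Hom.app_surjective (p k) U hU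
    ((𝔛.X k).presheaf.map (homOfLE (ComplSec.lvU_pre h p hp k U).ge).op y)
  refine ⟨r, ?_⟩
  show (𝔛.X k).presheaf.map _ ((p k).app U r) = y
  rw [hr]
  exact (ConcreteCategory.congr_hom ((𝔛.X k).presheaf.map_comp _ _) y).symm.trans
    ((congrArg (fun g => (𝔛.X k).presheaf.map g y) (Subsingleton.elim _ (𝟙 _))).trans
      (ConcreteCategory.congr_hom ((𝔛.X k).presheaf.map_id _) y))

theorem appLE_eq_zero_iff (k : ℕ) (U : X.affineOpens) (a : Γ(X, U.1)) :
    (p k).appLE U.1 _ (ComplSec.lvU_pre h p hp k U.1).le a = 0 ↔ a ∈ (p k).ker.ideal U := by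
  rw [Scheme.Hom.ker_apply, ← Levels.ker_appLE_eq (p k) U.1 _ (ComplSec.lvU_pre h p hp k U.1).le
    (ComplSec.lvU_pre h p hp k U.1).ge]
  exact Iff.rfl

variable (hker : ∀ k (U : X.affineOpens), (p k).ker.ideal U = (p 0).ker.ideal U ^ (k + 1))
  (U : X.affineOpens) (hfg : ((p 0).ker.ideal U).FG)

include hker hfg in
/-- Functions on the trace of an affine open: complete, projections surjective with kernels the powers. -/
theorem ring_spec :
    letI := algA h p hp U.1
    IsAdicComplete ((p 0).ker.ideal U) (Levels.A 𝔛 h (ComplSec.pre p U.1)) ∧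
      ∀ n (x : Levels.A 𝔛 h (ComplSec.pre p U.1)),
        Levels.proj 𝔛 h n (ComplSec.pre p U.1) x = 0 ↔
          x ∈ (p 0).ker.ideal U ^ (n + 1) •
            (⊤ : Submodule Γ(X, U.1) (Levels.A 𝔛 h (ComplSec.pre p U.1))) := by
  letI := algA h p hp U.1
  let q : ∀ n, Γ(X, U.1) →+* Levels.B 𝔛 h n (ComplSec.pre p U.1) := fun n =>
    ((p n).appLE U.1 _ (ComplSec.lvU_pre h p hp n U.1).le).hom
  letI : ∀ n, Algebra Γ(X, U.1) (Levels.B 𝔛 h n (ComplSec.pre p U.1)) := fun n => (q n).toAlgebra
  have hqt : ∀ n a, Levels.trans 𝔛 h n (ComplSec.pre p U.1) (q (n + 1) a) = q n a := fun n a =>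
    ConcreteCategory.congr_hom (FSch.appLE_comp_appLE_of_eq (𝔛.ι n) (p (n + 1)) (p n) (hp n) U.1
      (𝔛.lvU h (n + 1) (ComplSec.pre p U.1)) (𝔛.lvU h n (ComplSec.pre p U.1))
      (ComplSec.lvU_pre h p hp (n + 1) U.1).le (𝔛.lvU_le h n (ComplSec.pre p U.1))
      (ComplSec.lvU_pre h p hp n U.1).le) a
  let f : ∀ n, Levels.B 𝔛 h (n + 1) (ComplSec.pre p U.1) →ₗ[Γ(X, U.1)]
      Levels.B 𝔛 h n (ComplSec.pre p U.1) := fun n =>
    { toFun := Levels.trans 𝔛 h n (ComplSec.pre p U.1)
      map_add' := map_add _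
      map_smul' := fun a x => by
        rw [RingHom.id_apply, Algebra.smul_def, Algebra.smul_def, map_mul]
        exact congrArg (· * _) (hqt n a) }
  let π : ∀ n, Levels.A 𝔛 h (ComplSec.pre p U.1) →ₗ[Γ(X, U.1)]
      Levels.B 𝔛 h n (ComplSec.pre p U.1) := fun n =>
    { toFun := Levels.proj 𝔛 h n (ComplSec.pre p U.1)
      map_add' := map_add _
      map_smul' := fun a x => by
        rw [RingHom.id_apply, Algebra.smul_def, Algebra.smul_def, map_mul]
        exact congrArg (· * _) (proj_shA h p hp n U.1 a) }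
  have hsys : Adic.Limit.IsSys ((p 0).ker.ideal U) f π :=
    isSys_of_tower f π (fun n => Algebra.linearMap Γ(X, U.1) _)
      (fun n => surjective_appLE h p hp n U.2)
      (fun n => by
        ext a
        rw [Adic.Complete.pow_mul_top, ← hker, LinearMap.mem_ker]
        exact appLE_eq_zero_iff h p hp n U a)
      hqt
      (fun n => LinearMap.ext fun x =>
        ConcreteCategory.congr_hom (Levels.proj_trans 𝔛 h n (ComplSec.pre p U.1)) x)
      (fun x hx => Levels.ext_of_proj x hx) (fun y hy => Levels.exists_of_compatible y hy)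
  exact ⟨Adic.Limit.isAdicComplete hsys hfg, fun n x => by
    rw [← Adic.Limit.ker_eq hsys hfg n]
    exact Iff.rfl⟩

include hker hfg in
/-- Sections of the completion on the trace of an affine open. -/
theorem sec_spec (F : X.Modules) [F.IsQuasicoherent] :
    letI := secMod h p hp (cmp h p hp F) U.1
    IsAdicComplete ((p 0).ker.ideal U) (sec h (cmp h p hp F) (ComplSec.pre p U.1)) ∧
      ∀ n (x : sec h (cmp h p hp F) (ComplSec.pre p U.1)), pr h p hp F n U.1 x = 0 ↔
        x ∈ (p 0).ker.ideal U ^ (n + 1) •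
          (⊤ : Submodule Γ(X, U.1) (sec h (cmp h p hp F) (ComplSec.pre p U.1))) := by
  letI := secMod h p hp (cmp h p hp F) U.1
  letI : ∀ n, Module Γ(X, U.1) (lev h (ComplSec.pullSys p hp F).F n (ComplSec.pre p U.1)) := fun n =>
    Module.compHom _ (shA h p hp U.1)
  let f : ∀ n, lev h (ComplSec.pullSys p hp F).F (n + 1) (ComplSec.pre p U.1) →ₗ[Γ(X, U.1)]
      lev h (ComplSec.pullSys p hp F).F n (ComplSec.pre p U.1) := fun n =>
    { toFun := tr h (ComplSec.pullSys p hp F).F (ComplSec.pullSys p hp F).toPush n _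
      map_add' := map_add _
      map_smul' := fun a x => map_smul (tr h (ComplSec.pullSys p hp F).F
        (ComplSec.pullSys p hp F).toPush n (ComplSec.pre p U.1)) (shA h p hp U.1 a) x }
  let π : ∀ n, sec h (cmp h p hp F) (ComplSec.pre p U.1) →ₗ[Γ(X, U.1)]
      lev h (ComplSec.pullSys p hp F).F n (ComplSec.pre p U.1) := fun n =>
    { toFun := pr h p hp F n U.1
      map_add' := map_add _
      map_smul' := fun a x => map_smul (pr h p hp F n U.1) (shA h p hp U.1 a) x }
  let q : ∀ n, Γ(F, U.1) →ₗ[Γ(X, U.1)] lev h (ComplSec.pullSys p hp F).F n (ComplSec.pre p U.1) :=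
    fun n =>
    { toFun := ComplSec.σ h p hp F n U.1
      map_add' := map_add _
      map_smul' := fun a x => (shA_smul_σ h p hp F n U.1 a x).symm }
  have hsys : Adic.Limit.IsSys ((p 0).ker.ideal U) f π :=
    isSys_of_tower f π q (fun n => ComplSec.σ_surjective h p hp F n U.2)
      (fun n => by
        ext a
        rw [← hker, LinearMap.mem_ker]
        exact ComplSec.σ_eq_zero_iff h p hp F n U.2 a)
      (fun n x => tr_σ h p hp F n U.1 x)
      (fun n => LinearMap.ext fun x =>
        LinearMap.congr_fun (RealLimSec.tr_π h (ComplSec.pullSys p hp F).F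
          (ComplSec.pullSys p hp F).toPush n (ComplSec.pre p U.1)) x)
      (fun x hx => RealLimSec.ext_of_π h _ _ _ _ fun n => (hx n).trans (map_zero _).symm)
      (fun y hy => RealLimSec.exists_of_compatible h _ _ y hy)
  exact ⟨Adic.Limit.isAdicComplete hsys hfg, fun n x => by
    rw [← Adic.Limit.ker_eq hsys hfg n]
    exact Iff.rfl⟩

end Groth.Agent.Lib.FormalCompl.AffineLevels
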