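import Groth.Agent.Lib.Adic.Bosch.ArtinRees

/-!
# Artin–Rees and completeness in ideal language over topologically finite type algebras (helper5)
-/

set_option autoImplicit false

universe u

namespace Groth.Agent.Lib.FormalCompl.BoschShift

variable {R : Type u} [CommRing R] {I : Ideal R} {A : Type u} [CommRing A] [Algebra R A]

/-- Injective maps of finite modules have the Artin–Rees property. -/
theorem exists_shift (hR : AdicRing.IsBase R I) (hA : AdicRing.TopFiniteType R I A)
    {M N : Type u} [AddCommGroup M] [Module A M] [AddCommGroup N] [Module A N] [Module.Finite A N]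
    (u : M →ₗ[A] N) (hu : Function.Injective u) :
    ∃ s, ∀ k, s ≤ k → ∀ m, u m ∈ I.map (algebraMap R A) ^ k • (⊤ : Submodule A N) →
      m ∈ I.map (algebraMap R A) ^ (k - s) • (⊤ : Submodule A M) := by
  letI : Module R N := Module.compHom N (algebraMap R A)
  haveI : IsScalarTower R A N := IsScalarTower.of_algebraMap_smul fun _ _ => rfl
  obtain ⟨s, hs⟩ := Lib.Adic.Bosch.ArtinRees.artinRees hR hA (LinearMap.range u)
  refine ⟨s, fun k hk m hm => ?_⟩
  rw [← Ideal.map_pow, ← Submodule.restrictScalars_mem R, Ideal.smul_restrictScalars,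
    Submodule.restrictScalars_top] at hm
  have h1 := hs (k - s) ⟨by rwa [Nat.sub_add_cancel hk], LinearMap.mem_range_self u m⟩
  rw [← Ideal.smul_restrictScalars, Submodule.restrictScalars_mem, Ideal.map_pow,
    ← Submodule.map_top u, ← Submodule.map_smul''] at h1
  obtain ⟨m', hm', he⟩ := h1
  exact hu he ▸ hm'

/-- Finite modules are complete for the extended ideal. -/
theorem isAdicComplete (hR : AdicRing.IsBase R I) (hA : AdicRing.TopFiniteType R I A)
    (M : Type u) [AddCommGroup M] [Module A M] [Module.Finite A M] :
    IsAdicComplete (I.map (algebraMap R A)) M := by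
  letI : Module R M := Module.compHom M (algebraMap R A)
  haveI : IsScalarTower R A M := IsScalarTower.of_algebraMap_smul fun _ _ => rfl
  exact (IsAdicComplete.map_algebraMap_iff I M).2 (Lib.Adic.Bosch.ArtinRees.isAdicComplete hR hA)

end Groth.Agent.Lib.FormalCompl.BoschShift
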