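import Groth.Agent.Lib.FormalCompl.AffineLevels
import Groth.Agent.H30.IdealLemmas
import Groth.Agent.H78.Formal.Sections
import Groth.Agent.Lib.QCoh.Tilde
import Groth.Agent.Lib.QCoh.Pullback
import Groth.Agent.Lib.CohBasics.Affine

/-!
# Quasi-coherent systems on an affine completion come from modules (helper5, after helper30)

Without Noetherian hypotheses: the ring is complete for the finitely generated ideal.
-/

set_option autoImplicit false
set_option linter.style.haveILetI false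
set_option linter.unusedSectionVars false

universe u

open CategoryTheory CategoryTheory.Limits AlgebraicGeometry TopologicalSpace Opposite
open Groth.Agent.H30 Groth.Agent.H30.RealLimSec
open Groth.Agent.Lib

namespace Groth.Agent.Lib.FormalCompl.SysModule

variable {A : Type u} [CommRing A] {𝔛 : FSch.Sys.{u}} (h : 𝔛.IsFormal)
  (p : ∀ n, 𝔛.X n ⟶ Spec (CommRingCat.of A)) (hp : ∀ n, 𝔛.ι n ≫ p (n + 1) = p n)
  [∀ k, IsClosedImmersion (p k)] (J : Ideal A)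
  (hI : ∀ k, (p k).ker.ideal ⟨⊤, isAffineOpen_top _⟩ =
    (J ^ (k + 1)).map (Scheme.ΓSpecIso (CommRingCat.of A)).inv.hom)
  (hfg : J.FG)

/-- The common space, as an open. -/
noncomputable abbrev V₀ : (𝔛.X 0).Opens := ComplSec.pre p ⊤

/-- From the ring to the functions on the formal spectrum. -/
noncomputable def c : A →+* Levels.A 𝔛 h (V₀ p) :=
  (TildeHom.shA h p hp ⊤).comp (Scheme.ΓSpecIso (CommRingCat.of A)).inv.hom

theorem proj_c (k : ℕ) (r : A) :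
    Levels.proj 𝔛 h k (V₀ p) (c h p hp r) =
      (p k).appLE ⊤ _ (ComplSec.lvU_pre h p hp k ⊤).le
        ((Scheme.ΓSpecIso (CommRingCat.of A)).inv r) :=
  TildeHom.proj_shA h p hp k ⊤ _

/-- From the ring to the functions on a level. -/
noncomputable def cl (k : ℕ) : A →+* Levels.B 𝔛 h k (V₀ p) :=
  (Levels.proj 𝔛 h k (V₀ p)).hom.comp (c h p hp)

theorem cl_surjective (k : ℕ) : Function.Surjective (cl h p hp k) := by
  intro y
  obtain ⟨s, hs⟩ := AffineLevels.surjective_appLE h p hp k (isAffineOpen_top _) y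
  refine ⟨(Scheme.ΓSpecIso (CommRingCat.of A)).hom s, ?_⟩
  refine (proj_c h p hp k _).trans ((congrArg _ ?_).trans hs)
  exact ConcreteCategory.congr_hom (Scheme.ΓSpecIso (CommRingCat.of A)).hom_inv_id s

include hI in
theorem cl_eq_zero_iff (k : ℕ) (r : A) : cl h p hp k r = 0 ↔ r ∈ J ^ (k + 1) := by
  show Levels.proj 𝔛 h k (V₀ p) (c h p hp r) = 0 ↔ _
  rw [proj_c, AffineLevels.appLE_eq_zero_iff h p hp k ⟨⊤, isAffineOpen_top _⟩, hI,
    Ideal.mem_map_iff_of_surjective _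
      (ConcreteCategory.bijective_of_isIso (Scheme.ΓSpecIso (CommRingCat.of A)).inv).2]
  constructor
  · rintro ⟨s, hs, he⟩
    rwa [← (ConcreteCategory.bijective_of_isIso (Scheme.ΓSpecIso (CommRingCat.of A)).inv).1 he]
  · exact fun hr => ⟨r, hr, rfl⟩

theorem trans_cl (k : ℕ) (r : A) :
    Levels.trans 𝔛 h k (V₀ p) (cl h p hp (k + 1) r) = cl h p hp k r :=
  ConcreteCategory.congr_hom (Levels.proj_trans 𝔛 h k (V₀ p)) _

theorem tr_eq {𝔐 : FSch.ModSys 𝔛} {V : (𝔛.X 0).Opens} (n : ℕ) (x : lev h 𝔐.F (n + 1) V) :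
    tr h 𝔐.F 𝔐.toPush n V x = (𝔐.F n).presheaf.map (homOfLE (𝔛.lvU_le h n V)).op
      ((𝔐.e n).hom.app ((𝔛.ι n) ⁻¹ᵁ 𝔛.lvU h (n + 1) V)
        (((Scheme.Modules.pullbackPushforwardAdjunction (𝔛.ι n)).unit.app (𝔐.F (n + 1))).app
          (𝔛.lvU h (n + 1) V) x)) := by
  rw [tr_apply, FSch.ModSys.toPush, Adjunction.homEquiv_unit]
  rfl

variable (𝔐 : FSch.ModSys 𝔛)

/-- The module of a system. -/
noncomputable def Gm : ModuleCat.{u} (CommRingCat.of A) :=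
  (ModuleCat.restrictScalars (c h p hp)).obj
    (ModuleCat.of (Levels.A 𝔛 h (V₀ p)) (sec h (𝔐.realMod h) (V₀ p)))

/-- An element of the module, as a section. -/
noncomputable abbrev toSec (m : Gm h p hp 𝔐) : sec h (𝔐.realMod h) (V₀ p) := m

/-- The projection to level `k`. -/
noncomputable abbrev proj' (k : ℕ) (m : Gm h p hp 𝔐) : lev h 𝔐.F k (V₀ p) :=
  π h 𝔐.F 𝔐.toPush k (V₀ p) (toSec h p hp 𝔐 m)

variable (h𝔐 : ∀ k, (𝔐.F k).IsQuasicoherent)

include hI h𝔐 in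
theorem isSys :
    letI : ∀ k, Module A (lev h 𝔐.F k (V₀ p)) := fun _ => Module.compHom _ (c h p hp)
    ∃ (f : ∀ n, lev h 𝔐.F (n + 1) (V₀ p) →ₗ[A] lev h 𝔐.F n (V₀ p))
      (P : ∀ n, Gm h p hp 𝔐 →ₗ[A] lev h 𝔐.F n (V₀ p)),
      (∀ n m, P n m = proj' h p hp 𝔐 n m) ∧ Adic.Limit.IsSys J f P := by
  letI : ∀ k, Module A (lev h 𝔐.F k (V₀ p)) := fun _ => Module.compHom _ (c h p hp)
  let f : ∀ n, lev h 𝔐.F (n + 1) (V₀ p) →ₗ[A] lev h 𝔐.F n (V₀ p) := fun n =>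
    { toFun := tr h 𝔐.F 𝔐.toPush n (V₀ p)
      map_add' := map_add _
      map_smul' := fun a x => map_smul (tr h 𝔐.F 𝔐.toPush n (V₀ p)) (c h p hp a) x }
  let P : ∀ n, Gm h p hp 𝔐 →ₗ[A] lev h 𝔐.F n (V₀ p) := fun n =>
    { toFun := proj' h p hp 𝔐 n
      map_add' := fun _ _ => map_add _ _ _
      map_smul' := fun a x => map_smul (π h 𝔐.F 𝔐.toPush n (V₀ p)) (c h p hp a) (toSec h p hp 𝔐 x) }
  have hspec : ∀ n, Function.Surjective (f n) ∧
      LinearMap.ker (f n) = J ^ (n + 1) • (⊤ : Submodule A _) := by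
    intro n
    haveI := h𝔐 (n + 1)
    haveI := (h n).1
    have hU := OshBasic.isAffineOpen_lvU 𝔛 h (n + 1)
      (ComplSec.isAffineOpen_pre p (isAffineOpen_top _))
    have hres := CohSys.restrict_bijective (𝔐.F n) (𝔛.lvU_le h n (V₀ p)) (𝔛.lvU_succ h n (V₀ p)).le
    have he : Function.Bijective ((𝔐.e n).hom.app ((𝔛.ι n) ⁻¹ᵁ 𝔛.lvU h (n + 1) (V₀ p))) :=
      ConcreteCategory.bijective_of_isIso _
    refine ⟨fun y => ?_, ?_⟩
    · obtain ⟨z, hz⟩ := hres.2 y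
      obtain ⟨w, hw⟩ := he.2 z
      obtain ⟨x, hx⟩ := UnitKernel.unit_app_surjective (𝔛.ι n) (𝔐.F (n + 1)) hU w
      exact ⟨x, (tr_eq h n x).trans (by rw [hx, hw, hz])⟩
    · ext x
      have hJ : (J ^ (n + 1)).map (cl h p hp (n + 1)) = (𝔛.ι n).ker.ideal ⟨_, hU⟩ := by
        rw [Scheme.Hom.ker_apply, ← Levels.ker_trans']
        ext y
        obtain ⟨r, rfl⟩ := cl_surjective h p hp (n + 1) y
        rw [RingHom.mem_ker]
        refine Iff.trans ?_ (trans_cl h p hp n r ▸ (cl_eq_zero_iff h p hp J hI n r).symm)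
        rw [Ideal.mem_map_iff_of_surjective _ (cl_surjective h p hp (n + 1))]
        constructor
        · rintro ⟨s, hs, he⟩
          have h1 : cl h p hp n r = cl h p hp n s := by
            rw [← trans_cl h p hp n r, ← trans_cl h p hp n s, he]
          rw [← cl_eq_zero_iff h p hp J hI, h1, cl_eq_zero_iff h p hp J hI]
          exact hs
        · exact fun hr => ⟨r, hr, rfl⟩
      rw [LinearMap.mem_ker]
      show tr h 𝔐.F 𝔐.toPush n (V₀ p) x = 0 ↔ _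
      rw [tr_eq h n x, ← CohSys.mem_map_smul_top_iff _ (cl_surjective h p hp (n + 1))
        (fun a m => lev_smul h 𝔐.F (n + 1) (V₀ p) (c h p hp a) m) (J ^ (n + 1)), hJ,
        ← UnitKernel.unit_app_eq_zero_iff (𝔛.ι n) (𝔐.F (n + 1)) hU x]
      constructor
      · intro hx
        refine he.1 ((hres.1 ?_).trans (map_zero _).symm)
        exact hx.trans (map_zero _).symm
      · intro hx
        exact (congrArg _ ((congrArg _ hx).trans (map_zero _))).trans (map_zero _)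
  exact ⟨f, P, fun n m => rfl, fun n => (hspec n).1, fun n => (hspec n).2,
    fun n => LinearMap.ext fun x =>
      LinearMap.congr_fun (RealLimSec.tr_π h 𝔐.F 𝔐.toPush n (V₀ p)) (toSec h p hp 𝔐 x),
    fun x hx => RealLimSec.ext_of_π h _ _ _ _ fun n => (hx n).trans (map_zero _).symm,
    fun y hy => RealLimSec.exists_of_compatible h _ _ y hy⟩

include hI hfg h𝔐 in
theorem proj'_spec (k : ℕ) : Function.Surjective (proj' h p hp 𝔐 k) ∧
    ∀ m, proj' h p hp 𝔐 k m = 0 ↔ m ∈ J ^ (k + 1) • (⊤ : Submodule A (Gm h p hp 𝔐)) := by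
  letI : ∀ k, Module A (lev h 𝔐.F k (V₀ p)) := fun _ => Module.compHom _ (c h p hp)
  obtain ⟨f, P, hP, hsys⟩ := isSys h p hp J hI 𝔐 h𝔐
  refine ⟨fun y => ?_, fun m => ?_⟩
  · obtain ⟨m, hm⟩ := Adic.Limit.surjective hsys k y
    exact ⟨m, (hP k m).symm.trans hm⟩
  · rw [← hP, ← Adic.Limit.ker_eq hsys hfg k]
    exact Iff.rfl

include hI h𝔐 in
theorem finite_Gm [IsAdicComplete J A]
    (hfin : Module.Finite (Levels.B 𝔛 h 0 (V₀ p)) (Γ(𝔐.F 0, 𝔛.lvU h 0 (V₀ p)))) :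
    Module.Finite A (Gm h p hp 𝔐) := by
  letI : ∀ k, Module A (lev h 𝔐.F k (V₀ p)) := fun _ => Module.compHom _ (c h p hp)
  obtain ⟨f, P, -, hsys⟩ := isSys h p hp J hI 𝔐 h𝔐
  refine (Adic.Limit.of_complete_base hsys ?_).1
  letI : Algebra A (Levels.B 𝔛 h 0 (V₀ p)) := (cl h p hp 0).toAlgebra
  haveI : Module.Finite A (Levels.B 𝔛 h 0 (V₀ p)) :=
    Module.Finite.of_surjective (Algebra.linearMap A _) (cl_surjective h p hp 0)
  haveI : IsScalarTower A (Levels.B 𝔛 h 0 (V₀ p)) (lev h 𝔐.F 0 (V₀ p)) :=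
    IsScalarTower.of_algebraMap_smul fun a m => (lev_smul h 𝔐.F 0 (V₀ p) (c h p hp a) m).symm
  haveI : Module.Finite (Levels.B 𝔛 h 0 (V₀ p)) (lev h 𝔐.F 0 (V₀ p)) := hfin
  exact Module.Finite.trans (Levels.B 𝔛 h 0 (V₀ p)) _

/-- The comparison `M → Γ(X_k, F_k)`. -/
noncomputable def lin (k : ℕ) : Gm h p hp 𝔐 ⟶
    (moduleSpecΓFunctor (R := CommRingCat.of A)).obj ((Scheme.Modules.pushforward (p k)).obj (𝔐.F k)) :=
  ModuleCat.homEquiv.symm
    { toFun := fun m => (𝔐.F k).presheaf.map (homOfLE (ComplSec.lvU_pre h p hp k ⊤).ge).op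
        (proj' h p hp 𝔐 k m)
      map_add' := fun m m' => (congrArg _ (map_add _ _ _)).trans (map_add _ _ _)
      map_smul' := fun r m => by
        show (𝔐.F k).presheaf.map (homOfLE (ComplSec.lvU_pre h p hp k ⊤).ge).op
            (π h 𝔐.F 𝔐.toPush k (V₀ p) (c h p hp r • toSec h p hp 𝔐 m)) =
          (p k).app ⊤ ((Spec (CommRingCat.of A)).presheaf.map (homOfLE le_top).op
              ((Scheme.ΓSpecIso (CommRingCat.of A)).inv r)) •
            (show Γ(𝔐.F k, p k ⁻¹ᵁ ⊤) from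
              (𝔐.F k).presheaf.map (homOfLE (ComplSec.lvU_pre h p hp k ⊤).ge).op (proj' h p hp 𝔐 k m))
        refine (congrArg _ ((map_smul _ _ _).trans
          ((lev_smul h 𝔐.F k _ _ _).trans (congrArg (· • _) (proj_c h p hp k r))))).trans
          ((Scheme.Modules.map_smul _ _ _ _).trans ?_)
        congr 1
        rw [Scheme.Hom.app_eq_appLE]
        refine (ConcreteCategory.congr_hom ((p k).appLE_map _ _) _).trans ?_
        refine congrArg ((p k).appLE ⊤ _ _) ?_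
        exact (ConcreteCategory.congr_hom ((Spec (CommRingCat.of A)).presheaf.map_id _) _).symm }

/-- The map `M~ → (p_k)_* F_k`. -/
noncomputable def hk (k : ℕ) :
    tilde (Gm h p hp 𝔐) ⟶ (Scheme.Modules.pushforward (p k)).obj (𝔐.F k) :=
  ((tilde.adjunction (R := CommRingCat.of A)).homEquiv _ _).symm (lin h p hp 𝔐 k)

/-- The global section of `M~` of an element. -/
noncomputable abbrev top (M : ModuleCat.{u} (CommRingCat.of A)) (m : M) :
    Γ(tilde M, (⊤ : (Spec (CommRingCat.of A)).Opens)) :=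
  (tilde.toOpen M ⊤).hom m

theorem top_bijective (M : ModuleCat.{u} (CommRingCat.of A)) : Function.Bijective (top M) :=
  haveI := tilde.isIso_toOpen_top (M := M)
  ConcreteCategory.bijective_of_isIso (C := ModuleCat (CommRingCat.of A)) (tilde.toOpen M ⊤)

/-- Maps from `M~` are determined by their values on `M`. -/
theorem hom_ext_top {M : ModuleCat.{u} (CommRingCat.of A)} {N : (Spec (CommRingCat.of A)).Modules}
    {φ ψ : tilde M ⟶ N} (h : ∀ m, φ.app ⊤ (top M m) = ψ.app ⊤ (top M m)) : φ = ψ := by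
  refine ((tilde.adjunction (R := CommRingCat.of A)).homEquiv M N).injective ?_
  rw [Adjunction.homEquiv_unit, Adjunction.homEquiv_unit]
  exact ModuleCat.hom_ext (LinearMap.ext h)

theorem hk_top (k : ℕ) (m : Gm h p hp 𝔐) :
    (hk h p hp 𝔐 k).app ⊤ (top (Gm h p hp 𝔐) m) =
      (𝔐.F k).presheaf.map (homOfLE (ComplSec.lvU_pre h p hp k ⊤).ge).op (proj' h p hp 𝔐 k m) := by
  have h := Equiv.apply_symm_apply ((tilde.adjunction (R := CommRingCat.of A)).homEquiv (Gm h p hp 𝔐) _)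
    (lin h p hp 𝔐 k)
  rw [Adjunction.homEquiv_unit] at h
  refine Eq.trans ?_ (ConcreteCategory.congr_hom h m)
  rfl

/-- The comparison at level `k`. -/
noncomputable def g (k : ℕ) :
    (Scheme.Modules.pullback (p k)).obj (tilde (Gm h p hp 𝔐)) ⟶ 𝔐.F k :=
  ((Scheme.Modules.pullbackPushforwardAdjunction (p k)).homEquiv _ _).symm (hk h p hp 𝔐 k)

theorem homEquiv_g (k : ℕ) :
    ((Scheme.Modules.pullbackPushforwardAdjunction (p k)).homEquiv _ _) (g h p hp 𝔐 k) =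
      hk h p hp 𝔐 k :=
  Equiv.apply_symm_apply _ _

theorem g_σ (k : ℕ) (m : Gm h p hp 𝔐) :
    (g h p hp 𝔐 k).app (𝔛.lvU h k (V₀ p))
        (ComplSec.σ h p hp (tilde (Gm h p hp 𝔐)) k ⊤ (top _ m)) =
      proj' h p hp 𝔐 k m := by
  rw [ComplSec.σ_apply]
  refine ((g h p hp 𝔐 k).mapPresheaf.naturality_apply
    (homOfLE (ComplSec.lvU_pre h p hp k ⊤).le).op _).trans ?_
  have h1 : (g h p hp 𝔐 k).app (p k ⁻¹ᵁ ⊤) (CohDelta.Units.eta (p k) (tilde (Gm h p hp 𝔐)) ⊤ (top _ m)) =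
      (𝔐.F k).presheaf.map (homOfLE (ComplSec.lvU_pre h p hp k ⊤).ge).op (proj' h p hp 𝔐 k m) := by
    refine Eq.trans ?_ (hk_top h p hp 𝔐 k m)
    have h := homEquiv_g h p hp 𝔐 k
    rw [Adjunction.homEquiv_unit] at h
    exact ConcreteCategory.congr_hom (congrArg (fun χ => χ.app ⊤) h) _
  refine (congrArg _ h1).trans ((CohDelta.Units.map_map _ _ _ (𝟙 _) _).trans ?_)
  exact ConcreteCategory.congr_hom ((𝔐.F k).presheaf.map_id _) _

include hI hfg h𝔐 in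
theorem isIso_g (k : ℕ) : IsIso (g h p hp 𝔐 k) := by
  haveI := h𝔐 k
  haveI : (tilde (Gm h p hp 𝔐)).IsQuasicoherent := QCoh.Tilde.isQCoh_tildeFunctor_obj _
  haveI : ((Scheme.Modules.pullback (p k)).obj (tilde (Gm h p hp 𝔐))).IsQuasicoherent :=
    QCoh.Pullback.isQCoh_pullback (p k) _
  obtain ⟨hsurj, hkereq⟩ := proj'_spec h p hp J hI hfg 𝔐 h𝔐 k
  refine H78.Formal.Sections.isIso_of_cover (g h p hp 𝔐 k) fun x => ?_
  refine ⟨𝔛.lvU h k (V₀ p), OshBasic.isAffineOpen_lvU 𝔛 h k (ComplSec.isAffineOpen_pre p (isAffineOpen_top _)),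
    (ComplSec.lvU_pre h p hp k ⊤).ge trivial, ?_, fun y => ?_⟩
  · rw [injective_iff_map_eq_zero]
    intro y hy
    obtain ⟨w, rfl⟩ := ComplSec.σ_surjective h p hp (tilde (Gm h p hp 𝔐)) k (isAffineOpen_top _) y
    obtain ⟨m, rfl⟩ := (top_bijective (Gm h p hp 𝔐)).2 w
    have hm := (hkereq m).1 ((g_σ h p hp 𝔐 k m).symm.trans hy)
    refine (ComplSec.σ_eq_zero_iff h p hp (tilde (Gm h p hp 𝔐)) k (isAffineOpen_top _) _).2 ?_
    rw [hI]
    refine Submodule.smul_induction_on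
      (p := fun y => top _ y ∈ _) hm (fun r hr n _ => ?_) fun a b ha hb => ?_
    · refine Eq.subst (motive := fun z => z ∈ _) ((map_smul (tilde.toOpen (Gm h p hp 𝔐) ⊤).hom r n).symm.trans rfl)
        ?_
      refine Eq.subst (motive := fun z => z ∈ _) ?_
        (Submodule.smul_mem_smul (Ideal.mem_map_of_mem (Scheme.ΓSpecIso (CommRingCat.of A)).inv.hom hr)
          (Submodule.mem_top (x := top (Gm h p hp 𝔐) n)))
      exact congrArg (· • top (Gm h p hp 𝔐) n)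
        (ConcreteCategory.congr_hom ((Spec (CommRingCat.of A)).presheaf.map_id _) _).symm
    · exact Eq.subst (motive := fun z => z ∈ _) (map_add _ a b).symm (Submodule.add_mem _ ha hb)
  · obtain ⟨m, hm⟩ := hsurj y
    exact ⟨_, (g_σ h p hp 𝔐 k m).trans hm⟩

/-- The transition maps through any larger open. -/
theorem tr_res (𝔑 : FSch.ModSys 𝔛) (k : ℕ) {V : (𝔛.X 0).Opens} (W : (𝔛.X (k + 1)).Opens)
    (e1 : 𝔛.lvU h (k + 1) V ≤ W) (e2 : 𝔛.lvU h k V ≤ 𝔛.ι k ⁻¹ᵁ W) (x : Γ(𝔑.F (k + 1), W)) :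
    (𝔑.F k).presheaf.map (homOfLE e2).op ((𝔑.e k).hom.app (𝔛.ι k ⁻¹ᵁ W)
        (CohDelta.Units.eta (𝔛.ι k) (𝔑.F (k + 1)) W x)) =
      tr h 𝔑.F 𝔑.toPush k V ((𝔑.F (k + 1)).presheaf.map (homOfLE e1).op x) := by
  rw [tr_eq h]
  symm
  refine (congrArg (fun z => (𝔑.F k).presheaf.map (homOfLE (𝔛.lvU_le h k V)).op ((𝔑.e k).hom.app _ z))
    (((Scheme.Modules.pullbackPushforwardAdjunction (𝔛.ι k)).unit.app (𝔑.F (k + 1))).mapPresheaf.naturality_apply
      (homOfLE e1).op x)).trans ?_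
  refine (congrArg ((𝔑.F k).presheaf.map (homOfLE (𝔛.lvU_le h k V)).op)
    ((𝔑.e k).hom.mapPresheaf.naturality_apply (homOfLE ((𝔛.ι k).preimage_mono e1)).op _)).trans ?_
  exact CohDelta.Units.map_map _ _ _ _ _

theorem g_comm (k : ℕ) :
    (Scheme.Modules.pullback (𝔛.ι k)).map (g h p hp 𝔐 (k + 1)) ≫ (𝔐.e k).hom =
      ((ComplSec.pullSys p hp (tilde (Gm h p hp 𝔐))).e k).hom ≫ g h p hp 𝔐 k := by
  refine ((Scheme.Modules.pullbackPushforwardAdjunction (𝔛.ι k)).homEquiv _ _).injective ?_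
  refine ((Scheme.Modules.pullbackPushforwardAdjunction (p (k + 1))).homEquiv _ _).injective ?_
  refine hom_ext_top fun m => ?_
  have hT := tr_π h 𝔐.F 𝔐.toPush k (V₀ p)
  have key : ∀ (β : (Scheme.Modules.pullback (𝔛.ι k)).obj
      ((ComplSec.pullSys p hp (tilde (Gm h p hp 𝔐))).F (k + 1)) ⟶ 𝔐.F k),
      (((Scheme.Modules.pullbackPushforwardAdjunction (p (k + 1))).homEquiv _ _)
        (((Scheme.Modules.pullbackPushforwardAdjunction (𝔛.ι k)).homEquiv _ _) β)).app ⊤ (top _ m) =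
      β.app (𝔛.ι k ⁻¹ᵁ (p (k + 1) ⁻¹ᵁ ⊤)) (CohDelta.Units.eta (𝔛.ι k) _ _
        (CohDelta.Units.eta (p (k + 1)) (tilde (Gm h p hp 𝔐)) ⊤ (top _ m))) := by
    intro β
    rw [Adjunction.homEquiv_unit, Adjunction.homEquiv_unit]
    rfl
  rw [key, key]
  refine (CohSys.restrict_bijective (𝔐.F k)
    (show 𝔛.lvU h k (V₀ p) ≤ 𝔛.ι k ⁻¹ᵁ (p (k + 1) ⁻¹ᵁ ⊤) from fun _ _ => trivial)
    (fun z hz => (ComplSec.lvU_pre h p hp k ⊤).ge trivial)).1 ?_
  set t := top (Gm h p hp 𝔐) m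
  have hL : ((Scheme.Modules.pullback (𝔛.ι k)).map (g h p hp 𝔐 (k + 1))).app
      (𝔛.ι k ⁻¹ᵁ (p (k + 1) ⁻¹ᵁ ⊤)) (CohDelta.Units.eta (𝔛.ι k) _ _
        (CohDelta.Units.eta (p (k + 1)) (tilde (Gm h p hp 𝔐)) ⊤ t)) =
      CohDelta.Units.eta (𝔛.ι k) (𝔐.F (k + 1)) (p (k + 1) ⁻¹ᵁ ⊤)
        ((g h p hp 𝔐 (k + 1)).app (p (k + 1) ⁻¹ᵁ ⊤)
          (CohDelta.Units.eta (p (k + 1)) (tilde (Gm h p hp 𝔐)) ⊤ t)) :=
    CohDelta.Units.eta_map _ _ _ _
  refine ((congrArg (fun z => (𝔐.F k).presheaf.map _ ((𝔐.e k).hom.app _ z)) hL).trans ?_)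
  refine (tr_res h 𝔐 k (p (k + 1) ⁻¹ᵁ ⊤) (ComplSec.lvU_pre h p hp (k + 1) ⊤).le _ _).trans ?_
  have h1 : (𝔐.F (k + 1)).presheaf.map (homOfLE (ComplSec.lvU_pre h p hp (k + 1) ⊤).le).op
      ((g h p hp 𝔐 (k + 1)).app (p (k + 1) ⁻¹ᵁ ⊤)
          (CohDelta.Units.eta (p (k + 1)) (tilde (Gm h p hp 𝔐)) ⊤ t)) =
      π h 𝔐.F 𝔐.toPush (k + 1) (V₀ p) (toSec h p hp 𝔐 m) :=
    ((g h p hp 𝔐 (k + 1)).mapPresheaf.naturality_apply
      (homOfLE (ComplSec.lvU_pre h p hp (k + 1) ⊤).le).op _).symm.trans (g_σ h p hp 𝔐 (k + 1) m)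
  refine ((congrArg _ h1).trans (LinearMap.congr_fun hT _)).trans ?_
  refine ((g_σ h p hp 𝔐 k m).symm.trans ?_)
  have hN := tr_res h (ComplSec.pullSys p hp (tilde (Gm h p hp 𝔐))) k (p (k + 1) ⁻¹ᵁ ⊤)
    (ComplSec.lvU_pre h p hp (k + 1) ⊤).le
    (show 𝔛.lvU h k (V₀ p) ≤ 𝔛.ι k ⁻¹ᵁ (p (k + 1) ⁻¹ᵁ ⊤) from fun _ _ => trivial)
    (CohDelta.Units.eta (p (k + 1)) (tilde (Gm h p hp 𝔐)) ⊤ t)
  refine Eq.trans ?_ ((g h p hp 𝔐 k).mapPresheaf.naturality_apply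
      (homOfLE (show 𝔛.lvU h k (V₀ p) ≤ 𝔛.ι k ⁻¹ᵁ (p (k + 1) ⁻¹ᵁ ⊤) from fun _ _ => trivial)).op _)
  refine congrArg ((g h p hp 𝔐 k).app (𝔛.lvU h k (V₀ p))) ?_
  exact ((FormalCompl.Sec.tr_σ h p hp (tilde (Gm h p hp 𝔐)) k ⊤ t).symm.trans hN.symm)

/-- The comparison of systems. -/
noncomputable def hom : ComplSec.pullSys p hp (tilde (Gm h p hp 𝔐)) ⟶ 𝔐 :=
  ⟨g h p hp 𝔐, g_comm h p hp 𝔐⟩

include hI hfg h𝔐 in
/-- A quasi-coherent system comes from its module. -/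
theorem exists_iso : ∃ e : ComplSec.pullSys p hp (tilde (Gm h p hp 𝔐)) ≅ 𝔐, e.hom = hom h p hp 𝔐 := by
  have hgi := isIso_g h p hp J hI hfg 𝔐 h𝔐
  let e : ∀ k, (ComplSec.pullSys p hp (tilde (Gm h p hp 𝔐))).F k ≅ 𝔐.F k := fun k =>
    @asIso _ _ _ _ (g h p hp 𝔐 k) (hgi k)
  refine ⟨
    { hom := hom h p hp 𝔐
      inv := ⟨fun k => (e k).inv, fun k => ?_⟩
      hom_inv_id := FSch.ModSys.Hom.ext (funext fun k => (e k).hom_inv_id)
      inv_hom_id := FSch.ModSys.Hom.ext (funext fun k => (e k).inv_hom_id) }, rfl⟩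
  rw [← Functor.mapIso_inv, Iso.inv_comp_eq, ← Category.assoc, Iso.eq_comp_inv]
  exact (g_comm h p hp 𝔐 k).symm

end Groth.Agent.Lib.FormalCompl.SysModule
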