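import Groth.Agent.Lib.FormalCompl.CohLocal
import Groth.Agent.Lib.FormalCompl.SysModule
import Groth.Agent.H30.FSch.CohF

/-!
# Coherent modules on an affine completion come from finitely presented modules (helper5)
-/

set_option autoImplicit false
set_option linter.style.haveILetI false
set_option maxHeartbeats 800000

universe u

open CategoryTheory CategoryTheory.Limits AlgebraicGeometry TopologicalSpace Opposite
open Groth.Agent.H30 Groth.Agent.H30.RealLimSec
open Groth.Agent.Lib Groth.Agent.Lib.FormalCompl.Sec Groth.Agent.Lib.FormalCompl.CompleteAlg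

namespace Groth.Agent.Lib.FormalCompl.CohAffine

theorem π_realModMap {𝔛 : FSch.Sys.{u}} (h : 𝔛.IsFormal) {𝔐 𝔑 : FSch.ModSys 𝔛} (Φ : 𝔐 ⟶ 𝔑) (k : ℕ)
    (V : (𝔛.X 0).Opens) (x : sec h (𝔐.realMod h) V) :
    π h 𝔑.F 𝔑.toPush k V (secMap h (FSch.ModSys.realModMap h Φ) V x) =
      (Φ.app k).app (𝔛.lvU h k V) (π h 𝔐.F 𝔐.toPush k V x) :=
  congrArg (fun ψ => secMap h ψ V x)
    (FSch.realLimMap_realProj 𝔛 h Φ.app (FSch.ModSys.Hom.toPush_comm Φ) k)

variable {A : Type u} [CommRing A] {J : Ideal A}
  (h : (FSch.completionAlong (Spec (CommRingCat.of A)) (FSch.idealSpec A J)).IsFormal)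

local notation "cx" => FSch.completionToX_comm (Spec (CommRingCat.of A)) (FSch.idealSpec A J)
local notation "pj" => TildeSec.pp (A := CommRingCat.of A) J

theorem hI (k : ℕ) : (pj k).ker.ideal ⟨⊤, isAffineOpen_top _⟩ =
    (J ^ (k + 1)).map (Scheme.ΓSpecIso (CommRingCat.of A)).inv.hom := by
  rw [ComplSec.ker_completionToX, IdealLemmas.idealSpec_ideal_top, Ideal.map_pow]

/-- Basic opens meeting enough of the closed subscheme cover everything, as `J` is in the radical. -/
theorem span_eq_top (hJ : J ≤ (⊥ : Ideal A).jacobson) (S : Set A)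
    (hS : ∀ x : (FSch.completionAlong (Spec (CommRingCat.of A)) (FSch.idealSpec A J)).X 0,
      ∃ g ∈ S, x ∈ ComplSec.pre (pj) (TildeSec.D (A := CommRingCat.of A) g).1) :
    Ideal.span S = ⊤ := by
  by_contra hne
  obtain ⟨𝔪, h𝔪, hle⟩ := Ideal.exists_le_maximal _ hne
  have hJm : J ≤ 𝔪 := hJ.trans (sInf_le ⟨bot_le, h𝔪⟩)
  haveI : (𝔪.map (Ideal.Quotient.mk J)).IsPrime :=
    Ideal.map_isPrime_of_surjective Ideal.Quotient.mk_surjective (by rwa [Ideal.mk_ker])
  have hsupp : (⟨𝔪, h𝔪.isPrime⟩ : PrimeSpectrum A) ∈ Set.range (pj 0).base := by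
    show _ ∈ Set.range (FSch.idealSpec A J ^ (0 + 1)).subschemeι
    rw [Scheme.IdealSheafData.range_subschemeι, zero_add, pow_one, FSch.idealSpec, Scheme.Hom.support_ker]
    refine subset_closure ⟨⟨𝔪.map (Ideal.Quotient.mk J), inferInstance⟩, PrimeSpectrum.ext ?_⟩
    show (𝔪.map (Ideal.Quotient.mk J)).comap (Ideal.Quotient.mk J) = 𝔪
    rw [Ideal.comap_map_of_surjective _ Ideal.Quotient.mk_surjective, ← RingHom.ker_eq_comap_bot,
      Ideal.mk_ker, sup_eq_left.2 hJm]
  obtain ⟨x, hx⟩ := hsupp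
  obtain ⟨g, hg, hxg⟩ := hS x
  have hxg' : (⟨𝔪, h𝔪.isPrime⟩ : PrimeSpectrum A) ∈ PrimeSpectrum.basicOpen g := hx ▸ hxg
  exact hxg' (hle (Ideal.subset_span hg))

/-- Coherent modules are completions of finitely presented modules. -/
theorem exists_iso_pullSys (hJfg : J.FG) [IsAdicComplete J A]
    (hAR : ∀ (M : ModuleCat.{u} A) [Module.Finite A M] (l : ℕ) (φ : (Fin l → A) →ₗ[A] M),
      ∃ c, KerShift J φ c)
    (F : FSch.ModF (FSch.completionAlong (Spec (CommRingCat.of A)) (FSch.idealSpec A J)) h)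
    (hF : FSch.IsCohF (FSch.completionAlong (Spec (CommRingCat.of A)) (FSch.idealSpec A J)) h F) :
    ∃ M : ModuleCat.{u} A, Module.FinitePresentation A M ∧
      Nonempty (F ≅ (ComplSec.pullSys (pj) cx (tilde (R := CommRingCat.of A) M)).realMod h) := by
  haveI : ∀ k, IsClosedImmersion (pj k) := fun k => inferInstance
  haveI := hF
  have hpres := fun x => PresSh.exists_isPres (M := F) x
  have hcoh : ∀ k, Coh.IsCoh ((CohF.sys F).F k) := fun k => SchPres.isCoh_of_isPres fun z => by
    obtain ⟨W, n, m, f, r, hz, hp⟩ := hpres (FSch.Sys.gInv _ h k z)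
    exact ⟨_, n, m, _, _, hz, CohF.isPres_pullk hp k⟩
  haveI hq : ∀ k, ((CohF.sys F).F k).IsQuasicoherent := fun k => (hcoh k).1
  haveI : SheafOfModules.IsFiniteType
      (R := ((FSch.completionAlong (Spec (CommRingCat.of A)) (FSch.idealSpec A J)).X 0).ringCatSheaf)
      ((CohF.sys F).F 0) := (hcoh 0).2
  let M := SysModule.Gm h (pj) cx (CohF.sys F)
  haveI hfinM : Module.Finite A M := SysModule.finite_Gm h (pj) cx J hI (CohF.sys F) hq
    (CohBasics.Affine.finite_sections (M := (CohF.sys F).F 0)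
      (OshBasic.isAffineOpen_lvU _ h 0 (ComplSec.isAffineOpen_pre (pj) (isAffineOpen_top _))))
  obtain ⟨e, -⟩ := SysModule.exists_iso h (pj) cx J hI hJfg (CohF.sys F) hq
  let ψ : F ⟶ cmp h (pj) cx (tilde (R := CommRingCat.of A) M) :=
    CohF.θ F ≫ FSch.ModSys.realModMap h e.inv
  have hψ : ∀ k (V : ((FSch.completionAlong (Spec (CommRingCat.of A)) (FSch.idealSpec A J)).X 0).Opens)
      (y : sec h F V), π h _ (ComplSec.pullSys (pj) cx (tilde (R := CommRingCat.of A) M)).toPush k V
        (secMap h ψ V y) = (e.inv.app k).app _ (LevelPull.η h k F V y) := fun k V y => by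
    refine (π_realModMap h e.inv k V (secMap h (CohF.θ F) V y)).trans ?_
    exact congrArg _ (CohF.π_θ F k V y)
  obtain ⟨l, φ, hφ⟩ := Module.Finite.exists_fin' A M
  let μ : Fin l → M := fun i => φ (Pi.single i 1)
  have hμ : φ = Fintype.linearCombination A μ := LinearMap.pi_ext' fun i => LinearMap.ext_ring (by
    simp [μ, Fintype.linearCombination_apply_single])
  rw [hμ] at hφ
  obtain ⟨c, hc⟩ := hAR M l (Fintype.linearCombination A μ)
  have hres : ∀ {W V : ((FSch.completionAlong (Spec (CommRingCat.of A)) (FSch.idealSpec A J)).X 0).Opens}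
      (e : V ≤ W) (x : sec h F W), secMap h ψ V (CohPres.resF h F e x) =
        CohPres.resF h _ e (secMap h ψ W x) := fun e x => LevelAdj.secMap_map ψ e x
  -- the local statement
  have key : ∀ (g : A) (W : ((FSch.completionAlong (Spec (CommRingCat.of A)) (FSch.idealSpec A J)).X 0).Opens)
      (n m : ℕ) (f : Fin n → sec h F W) (r : Fin m → Fin n → Levels.A _ h W)
      (hgW : ComplSec.pre (pj) (TildeSec.D (A := CommRingCat.of A) g).1 ≤ W),
      PresSh.IsPres (R := ModSite.ringSh (FSch.Sys.Osh _ h)) F W f r →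
      (∀ y, ∃ b : Fin n → Levels.A _ h (ComplSec.pre (pj) (TildeSec.D (A := CommRingCat.of A) g).1),
        y = ∑ i, b i • secMap h ψ _ (CohPres.resF h F hgW (f i))) ∧
      (∀ a : Fin n → Levels.A _ h (ComplSec.pre (pj) (TildeSec.D (A := CommRingCat.of A) g).1),
        ∑ i, a i • secMap h ψ _ (CohPres.resF h F hgW (f i)) = 0 →
          ∃ d : Fin m → Levels.A _ h (ComplSec.pre (pj) (TildeSec.D (A := CommRingCat.of A) g).1),
            ∀ i, a i = ∑ j, d j * CohPres.resA h hgW (r j i)) ∧
      ∃ T : Submodule A (Fin l → A), T.FG ∧ T ≤ LinearMap.ker (Fintype.linearCombination A μ) ∧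
        ∀ x ∈ LinearMap.ker (Fintype.linearCombination A μ),
          ∃ N, g ^ N • x ∈ T ⊔ J ^ (c + 1) • ⊤ := by
    intro g W n m f r hgW hp
    let U := TildeSec.D (A := CommRingCat.of A) g
    let V := ComplSec.pre (pj) U.1
    have hV : IsAffineOpen V := ComplSec.isAffineOpen_pre (pj) U.2
    -- the two comparisons at level `k`
    have hsum : ∀ k (a : Fin n → Levels.A _ h V),
        (e.hom.app k).app _ (pr h (pj) cx (tilde (R := CommRingCat.of A) M) k U.1
          (∑ i, a i • secMap h ψ V (CohPres.resF h F hgW (f i)))) =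
        ∑ i, Levels.proj _ h k V (a i) • (show Γ(LevelPull.pullk h k F, FSch.Sys.lvU _ h k V) from
          QCoh.Localizing.res _ (CohPres.lvU_mono h k hgW) (LevelPull.η h k F W (f i))) := by
      intro k a
      have h1 : ∑ i, a i • secMap h ψ V (CohPres.resF h F hgW (f i)) =
          secMap h ψ V (∑ i, a i • CohPres.resF h F hgW (f i)) := by
        rw [map_sum]
        exact Finset.sum_congr rfl fun i _ => (map_smul _ _ _).symm
      rw [h1]
      refine (congrArg ((e.hom.app k).app _) (hψ k V _)).trans ?_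
      have h2 : e.inv.app k ≫ e.hom.app k = 𝟙 _ :=
        congrFun (congrArg FSch.ModSys.Hom.app e.inv_hom_id) k
      refine (ConcreteCategory.congr_hom (congrArg (fun χ => χ.app _) h2)
        (LevelPull.η h k F V _)).trans ?_
      show LevelPull.η h k F V (∑ i, a i • CohPres.resF h F hgW (f i)) = _
      rw [map_sum]
      refine Finset.sum_congr rfl fun i _ => (map_smul _ _ _).trans ?_
      exact (lev_smul h _ k V (a i) _).trans
        (congrArg (_ • ·) (LevelPull.η_res h k F hgW (f i)))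
    have hinj : ∀ k, Function.Injective
        ((e.hom.app k).app (FSch.Sys.lvU _ h k V)) := fun k => by
      have h1 : e.hom.app k ≫ e.inv.app k = 𝟙 _ :=
        congrFun (congrArg FSch.ModSys.Hom.app e.hom_inv_id) k
      exact Function.LeftInverse.injective (g := (e.inv.app k).app _) fun z =>
        ConcreteCategory.congr_hom (congrArg (fun χ => χ.app _) h1) z
    refine CohLocal.local_spec (A := CommRingCat.of A) h hJfg M g μ hφ hc
      (fun i => secMap h ψ V (CohPres.resF h F hgW (f i))) (fun j i => CohPres.resA h hgW (r j i))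
      (fun j => ?_) (fun y => ?_) (fun k a ha => ?_)
    · have := congrArg (secMap h ψ V) (congrArg (CohPres.resF h F hgW)
        (show ∑ i, r j i • f i = 0 from hp.rel j))
      simpa only [map_sum, CohPres.resF_smul, map_smul, map_zero] using this
    · haveI : (LevelPull.pullk h 0 F).IsQuasicoherent := hq 0
      obtain ⟨b₀, hb₀⟩ := SchPres.gen_of_isPres (CohF.isPres_pullk hp 0)
        (OshBasic.isAffineOpen_lvU _ h 0 hV) (CohPres.lvU_mono h 0 hgW)
        ((e.hom.app 0).app _ (pr h (pj) cx (tilde (R := CommRingCat.of A) M) 0 U.1 y))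
      choose b hb using fun i => OshBasic.OshProj_surjective _ h 0 hV (b₀ i)
      refine ⟨b, ?_⟩
      rw [map_sub, sub_eq_zero]
      apply hinj 0
      refine hb₀.trans (Eq.trans ?_ (hsum 0 b).symm)
      exact Finset.sum_congr rfl fun i _ => congrArg (· • _) (hb i).symm
    · have h0 := (hsum k a).symm.trans ((congrArg ((e.hom.app k).app _) ha).trans (map_zero _))
      obtain ⟨d₀, hd₀⟩ := SchPres.exact_of_isPres (CohF.isPres_pullk hp k)
        (OshBasic.isAffineOpen_lvU _ h k hV) (CohPres.lvU_mono h k hgW)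
        (fun i => Levels.proj _ h k V (a i)) h0
      choose d hd using fun j => OshBasic.OshProj_surjective _ h k hV (d₀ j)
      refine ⟨d, fun i => ?_⟩
      rw [map_sub, sub_eq_zero]
      refine (hd₀ i).trans ?_
      rw [map_sum]
      refine Finset.sum_congr rfl fun j _ => ?_
      rw [map_mul]
      exact congrArg₂ (· * ·) (hd j).symm (CohPres.proj_resA h k hgW (r j i)).symm
  -- the basic opens inside the domains of presentations
  let S : Set A := {g | ∃ (W : ((FSch.completionAlong (Spec (CommRingCat.of A)) (FSch.idealSpec A J)).X 0).Opens)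
    (n m : ℕ) (f : Fin n → sec h F W) (r : Fin m → Fin n → Levels.A _ h W),
    ComplSec.pre (pj) (TildeSec.D (A := CommRingCat.of A) g).1 ≤ W ∧
      PresSh.IsPres (R := ModSite.ringSh (FSch.Sys.Osh _ h)) F W f r}
  have hB : Opens.IsBasis (Set.range fun g : S =>
      ComplSec.pre (pj) (TildeSec.D (A := CommRingCat.of A) g.1).1) := by
    rw [Opens.isBasis_iff_nbhd]
    intro O x hx
    obtain ⟨W, n, m, f, r, hxW, hp⟩ := hpres x
    obtain ⟨_, ⟨g, rfl⟩, hxg, hgO⟩ := Opens.isBasis_iff_nbhd.1
      (TildeSec.isBasis_pre (A := CommRingCat.of A) J) (show x ∈ O ⊓ W from ⟨hx, hxW⟩)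
    exact ⟨_, ⟨⟨g, W, n, m, f, r, hgO.trans inf_le_right, hp⟩, rfl⟩, hxg, hgO.trans inf_le_left⟩
  have hbij : ∀ g : S, Function.Bijective
      (secMap h ψ (ComplSec.pre (pj) (TildeSec.D (A := CommRingCat.of A) g.1).1)) := by
    rintro ⟨g, W, n, m, f, r, hgW, hp⟩
    constructor
    · rw [injective_iff_map_eq_zero]
      intro y hy
      refine TopCat.Presheaf.section_ext
        (F := (SheafOfModules.toSheaf _).obj F) _ y 0 fun z hz => ?_
      obtain ⟨V', hV'V, hV'W, hz', a₀, ha₀⟩ := hp.gen _ hgW y z hz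
      obtain ⟨_, ⟨g', rfl⟩, hzg, hgV'⟩ := Opens.isBasis_iff_nbhd.1
        (TildeSec.isBasis_pre (A := CommRingCat.of A) J) hz'
      let a : Fin n → Levels.A _ h (ComplSec.pre (pj) (TildeSec.D (A := CommRingCat.of A) g').1) :=
        fun i => CohPres.resA h hgV' (show Levels.A _ h V' from a₀ i)
      have ha : CohPres.resF h F (hgV'.trans hV'V) y =
          ∑ i, a i • CohPres.resF h F (hgV'.trans hV'W) (f i) := by
        have := congrArg (CohPres.resF h F hgV') (show CohPres.resF h F hV'V y =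
          ∑ i, (show Levels.A _ h V' from a₀ i) • CohPres.resF h F hV'W (f i) from ha₀)
        simp only [map_sum, CohPres.resF_smul, LevelPull.resF_resF] at this
        exact this
      obtain ⟨-, hex, -⟩ := key g' W n m f r (hgV'.trans hV'W) hp
      obtain ⟨d, hd⟩ := hex a (by
        have h0 := congrArg (secMap h ψ _) ha
        rw [hres, hy, map_zero, map_sum] at h0
        simp only [map_smul] at h0
        exact h0.symm)
      have h1 : CohPres.resF h F (hgV'.trans hV'V) y = 0 := by
        rw [ha]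
        simp only [hd, Finset.sum_smul]
        rw [Finset.sum_comm]
        refine Finset.sum_eq_zero fun j _ => ?_
        simp only [mul_smul, ← Finset.smul_sum, ← CohPres.resF_smul, ← map_sum,
          show ∑ i, r j i • f i = 0 from hp.rel j, map_zero, smul_zero]
      refine Eq.trans ?_ (map_zero _).symm
      refine (TopCat.Presheaf.germ_res_apply ((SheafOfModules.toSheaf _).obj F).obj
        (homOfLE (hgV'.trans hV'V)) z hzg y).symm.trans ?_
      exact (congrArg _ h1).trans (map_zero _)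
    · intro y
      obtain ⟨hgen, -, -⟩ := key g W n m f r hgW hp
      obtain ⟨b, rfl⟩ := hgen y
      refine ⟨∑ i, b i • CohPres.resF h F hgW (f i), ?_⟩
      rw [map_sum]
      exact Finset.sum_congr rfl fun i _ => map_smul _ _ _
  haveI : IsIso ((SheafOfModules.toSheaf _).map ψ) :=
    TopCat.Sheaf.isIso_iff_isIso_basis hB fun g =>
      (ConcreteCategory.isIso_iff_bijective _).2 (hbij g)
  haveI : IsIso ψ := isIso_of_reflects_iso ψ (SheafOfModules.toSheaf _)
  refine ⟨M, ?_, ⟨asIso ψ⟩⟩
  -- finite presentation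
  have hS : Ideal.span S = ⊤ := span_eq_top (IsAdicComplete.le_jacobson_bot J) S fun x => by
    obtain ⟨_, ⟨g, rfl⟩, hxg, -⟩ := Opens.isBasis_iff_nbhd.1 hB (show x ∈ (⊤ : Opens _) from trivial)
    exact ⟨g.1, g.2, hxg⟩
  obtain ⟨G, hGS, hG⟩ := Submodule.mem_span_finite_of_mem_span
    (show (1 : A) ∈ Ideal.span S by rw [hS]; trivial)
  have hT : ∀ g ∈ G, ∃ T : Submodule A (Fin l → A), T.FG ∧
      T ≤ LinearMap.ker (Fintype.linearCombination A μ) ∧
        ∀ x ∈ LinearMap.ker (Fintype.linearCombination A μ),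
          ∃ N, g ^ N • x ∈ T ⊔ J ^ (c + 1) • ⊤ := fun g hg => by
    obtain ⟨W, n, m, f, r, hgW, hp⟩ := hGS hg
    exact (key g W n m f r hgW hp).2.2
  choose! T hT1 hT2 hT3 using hT
  exact Module.finitePresentation_of_surjective _ hφ
    (fg_ker_of_cover (Fintype.linearCombination A μ) hc G ((Ideal.eq_top_iff_one _).2 hG) T hT1 hT2 hT3)

/-- The same, for a system equal to the system of inverse images. -/
theorem exists_iso_of_eq (hJfg : J.FG) [IsAdicComplete J A]
    (hAR : ∀ (M : ModuleCat.{u} A) [Module.Finite A M] (l : ℕ) (φ : (Fin l → A) →ₗ[A] M),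
      ∃ c, KerShift J φ c)
    (Q : ModuleCat.{u} A → FSch.ModSys (FSch.completionAlong (Spec (CommRingCat.of A)) (FSch.idealSpec A J)))
    (hQ : ∀ M, Q M = ComplSec.pullSys (pj) cx (tilde (R := CommRingCat.of A) M))
    (F : FSch.ModF (FSch.completionAlong (Spec (CommRingCat.of A)) (FSch.idealSpec A J)) h)
    (hF : FSch.IsCohF (FSch.completionAlong (Spec (CommRingCat.of A)) (FSch.idealSpec A J)) h F) :
    ∃ M : ModuleCat.{u} A, Module.FinitePresentation A M ∧ Nonempty (F ≅ (Q M).realMod h) := by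
  obtain rfl : Q = fun M => ComplSec.pullSys (pj) cx (tilde (R := CommRingCat.of A) M) := funext hQ
  exact exists_iso_pullSys h hJfg hAR F hF

end Groth.Agent.Lib.FormalCompl.CohAffine
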