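import Groth.Agent.Lib.Adic.Complete
import Mathlib.RingTheory.Localization.Away.Basic

/-!
# Kernels of maps onto completed modules (helper5)

Artin–Rees bounds pass to localisations and completions, are independent of the chosen generators,
and force the relations known modulo every power of the ideal to be all relations.
-/

set_option autoImplicit false

universe u v w

open Submodule

namespace Groth.Agent.Lib.FormalCompl.CompleteAlg

section Shift

variable {A : Type u} [CommRing A] (I : Ideal A)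

/-- The kernel of a linear map has an Artin–Rees bound. -/
def KerShift {P G : Type v} [AddCommGroup P] [Module A P] [AddCommGroup G] [Module A G]
    (φ : P →ₗ[A] G) (c : ℕ) : Prop :=
  ∀ s, ∀ x ∈ LinearMap.ker φ, x ∈ I ^ s • (⊤ : Submodule A P) →
    x ∈ I ^ (s - c) • LinearMap.ker φ

variable {I}

theorem map_smul_ker_le {P Q G : Type v} [AddCommGroup P] [Module A P] [AddCommGroup Q]
    [Module A Q] [AddCommGroup G] [Module A G] (φ : P →ₗ[A] G) (ψ : Q →ₗ[A] G)
    (α : P →ₗ[A] Q) (hα : ψ ∘ₗ α = φ) (J : Ideal A) :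
    (J • LinearMap.ker φ).map α ≤ J • LinearMap.ker ψ := by
  rw [map_smul'']
  refine smul_mono le_rfl ?_
  rintro _ ⟨x, hx, rfl⟩
  rw [LinearMap.mem_ker, ← LinearMap.comp_apply, hα]
  exact hx

/-- Independence of the generators (Schanuel). -/
theorem kerShift_of {P Q G : Type v} [AddCommGroup P] [Module A P] [AddCommGroup Q] [Module A Q]
    [AddCommGroup G] [Module A G] (φ : P →ₗ[A] G) (ψ : Q →ₗ[A] G) (α : P →ₗ[A] Q)
    (β : Q →ₗ[A] P) (hα : ψ ∘ₗ α = φ) (hβ : φ ∘ₗ β = ψ) {c : ℕ} (hψ : KerShift I ψ c) :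
    KerShift I φ c := by
  intro s x hx hxs
  have hδ : φ ∘ₗ (LinearMap.id - β ∘ₗ α) = 0 := by
    rw [LinearMap.comp_sub, LinearMap.comp_id, ← LinearMap.comp_assoc, hβ, hα, sub_self]
  have h1 : x - β (α x) ∈ I ^ (s - c) • LinearMap.ker φ := by
    refine smul_mono_left (Ideal.pow_le_pow_right (Nat.sub_le s c)) ?_
    have := mem_map_of_mem (f := LinearMap.id - β ∘ₗ α) hxs
    rw [map_smul''] at this
    refine smul_mono le_rfl ?_ this
    rintro _ ⟨y, -, rfl⟩
    exact LinearMap.congr_fun hδ y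
  have hαx : α x ∈ LinearMap.ker ψ := by
    rw [LinearMap.mem_ker, ← LinearMap.comp_apply, hα]
    exact hx
  have hαs : α x ∈ I ^ s • (⊤ : Submodule A Q) := by
    have := mem_map_of_mem (f := α) hxs
    rw [map_smul''] at this
    exact smul_mono le_rfl le_top this
  have h2 : β (α x) ∈ I ^ (s - c) • LinearMap.ker φ :=
    map_smul_ker_le ψ φ β hβ _ (mem_map_of_mem (hψ s _ hαx hαs))
  exact (sub_add_cancel x (β (α x))) ▸ add_mem h1 h2

theorem isHausdorff_pi [IsHausdorff I A] (ι : Type v) : IsHausdorff I (ι → A) := by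
  refine ⟨fun x hx => funext fun i => IsHausdorff.haus ‹_› (x i) fun n => ?_⟩
  rw [SModEq.zero, Adic.Complete.pow_mul_top]
  exact Adic.Complete.mem_of_mem_smul_top_pi (SModEq.zero.1 (hx n)) i

/-- Submodules of a kernel filling it modulo every power of the ideal are equal to it. -/
theorem ker_eq_of_le_sup {P G : Type v} [AddCommGroup P] [Module A P] [AddCommGroup G] [Module A G]
    [IsPrecomplete I A] [IsHausdorff I P] (φ : P →ₗ[A] G) {c : ℕ} (hφ : KerShift I φ c)
    {N : Submodule A P} (hN : N.FG) (hle : N ≤ LinearMap.ker φ)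
    (h : LinearMap.ker φ ≤ N ⊔ I ^ (c + 1) • ⊤) : LinearMap.ker φ = N := by
  refine le_antisymm (Adic.Complete.le_of_le_sup_smul (I := I) hN hle fun x hx => ?_) hle
  obtain ⟨a, ha, b, hb, rfl⟩ := mem_sup.1 (h hx)
  have hb' : b ∈ LinearMap.ker φ := by
    have := sub_mem hx (hle ha)
    rwa [add_sub_cancel_left] at this
  have := hφ (c + 1) b hb' hb
  rw [Nat.add_sub_cancel_left, pow_one] at this
  exact mem_sup.2 ⟨a, ha, b, this, rfl⟩

/-- Finite generation of kernels passes between presentations. -/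
theorem fg_ker_of {P Q G : Type v} [AddCommGroup P] [Module A P] [AddCommGroup Q] [Module A Q]
    [AddCommGroup G] [Module A G] [Module.Finite A Q] (φ : P →ₗ[A] G) (ψ : Q →ₗ[A] G)
    (α : P →ₗ[A] Q) (β : Q →ₗ[A] P) (hα : ψ ∘ₗ α = φ) (hβ : φ ∘ₗ β = ψ)
    (hφ : (LinearMap.ker φ).FG) : (LinearMap.ker ψ).FG := by
  have : LinearMap.ker ψ = (LinearMap.ker φ).map α ⊔ LinearMap.range (LinearMap.id - α ∘ₗ β) := by
    refine le_antisymm (fun x hx => ?_) (sup_le ?_ ?_)
    · refine mem_sup.2 ⟨α (β x), ⟨β x, ?_, rfl⟩, x - α (β x), ⟨x, rfl⟩, add_sub_cancel _ _⟩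
      show φ (β x) = 0
      rw [← LinearMap.comp_apply, hβ]
      exact hx
    · rintro _ ⟨x, hx, rfl⟩
      rw [LinearMap.mem_ker, ← LinearMap.comp_apply, hα]
      exact hx
    · rintro _ ⟨x, rfl⟩
      rw [LinearMap.mem_ker, LinearMap.sub_apply, map_sub, LinearMap.id_apply, LinearMap.comp_apply,
        ← LinearMap.comp_apply ψ, hα, ← LinearMap.comp_apply φ, hβ, sub_self]
  rw [this]
  exact (hφ.map _).sup (Module.Finite.iff_fg.1 inferInstance)

theorem exists_sum_of_mem_span_smul {M : Type v} [AddCommGroup M] [Module A M] {n : ℕ}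
    (g : Fin n → A) (N : Submodule A M) {x : M} (hx : x ∈ Ideal.span (Set.range g) • N) :
    ∃ c : Fin n → M, (∀ i, c i ∈ N) ∧ x = ∑ i, g i • c i := by
  refine Submodule.smul_induction_on hx (fun a ha y hy => ?_) ?_
  · obtain ⟨b, rfl⟩ := (Submodule.mem_span_range_iff_exists_fun A).1 ha
    refine ⟨fun i => b i • y, fun i => N.smul_mem _ hy, ?_⟩
    rw [Finset.sum_smul]
    exact Finset.sum_congr rfl fun i _ => by rw [smul_eq_mul, mul_comm, mul_smul]
  · rintro y z ⟨c, hc, rfl⟩ ⟨d, hd, rfl⟩
    exact ⟨c + d, fun i => add_mem (hc i) (hd i), by simp [smul_add, Finset.sum_add_distrib]⟩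

variable {P M PP MM : Type v} [AddCommGroup P] [Module A P] [AddCommGroup M] [Module A M]
  [AddCommGroup PP] [Module A PP] [AddCommGroup MM] [Module A MM]

/-- Approximation of elements of a completed kernel by elements of the kernel. -/
theorem exists_approx (v : P →ₗ[A] M) (hv : Function.Surjective v) (e : P →ₗ[A] PP)
    (eM : M →ₗ[A] MM) (vv : PP →ₗ[A] MM) (hcomm : vv ∘ₗ e = eM ∘ₗ v)
    (hd : ∀ j x, ∃ p, x - e p ∈ I ^ j • (⊤ : Submodule A PP))
    (hsM : ∀ j m, eM m ∈ I ^ j • (⊤ : Submodule A MM) → m ∈ I ^ j • (⊤ : Submodule A M))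
    {x : PP} (hx : vv x = 0) (j : ℕ) :
    ∃ p ∈ LinearMap.ker v, x - e p ∈ I ^ j • (⊤ : Submodule A PP) := by
  obtain ⟨p, hp⟩ := hd j x
  have h1 : eM (v p) ∈ I ^ j • (⊤ : Submodule A MM) := by
    have h2 : eM (v p) = -(vv (x - e p)) := by
      rw [map_sub, hx, zero_sub, neg_neg, ← LinearMap.comp_apply vv, hcomm]
      rfl
    rw [h2]
    refine neg_mem ?_
    have := mem_map_of_mem (f := vv) hp
    rw [map_smul''] at this
    exact smul_mono le_rfl le_top this
  have h3 : v p ∈ (I ^ j • (⊤ : Submodule A P)).map v := by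
    rw [map_smul'', Submodule.map_top, LinearMap.range_eq_top.2 hv]
    exact hsM j _ h1
  obtain ⟨q, hq, hqv⟩ := h3
  refine ⟨p - q, by rw [LinearMap.mem_ker, map_sub, hqv, sub_self], ?_⟩
  rw [map_sub, ← sub_add]
  refine add_mem hp ?_
  have := mem_map_of_mem (f := e) hq
  rw [map_smul''] at this
  exact smul_mono le_rfl le_top this

/-- Artin–Rees bounds pass to completions. -/
theorem kerShift_completion [IsPrecomplete I PP] [IsHausdorff I PP] [IsHausdorff I MM]
    (hI : I.FG) (v : P →ₗ[A] M) (hv : Function.Surjective v) (e : P →ₗ[A] PP) (eM : M →ₗ[A] MM)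
    (vv : PP →ₗ[A] MM) (hcomm : vv ∘ₗ e = eM ∘ₗ v)
    (hd : ∀ j x, ∃ p, x - e p ∈ I ^ j • (⊤ : Submodule A PP))
    (hsP : ∀ j p, e p ∈ I ^ j • (⊤ : Submodule A PP) → p ∈ I ^ j • (⊤ : Submodule A P))
    (hsM : ∀ j m, eM m ∈ I ^ j • (⊤ : Submodule A MM) → m ∈ I ^ j • (⊤ : Submodule A M))
    {c : ℕ} (hc : KerShift I v c) : KerShift I vv c := by
  intro s x hx hxs
  by_cases hsc : s ≤ c
  · rw [Nat.sub_eq_zero_of_le hsc, pow_zero, Ideal.one_eq_top, top_smul]
    exact hx
  have hker : ∀ p ∈ LinearMap.ker v, e p ∈ LinearMap.ker vv := fun p hp => by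
    rw [LinearMap.mem_ker, ← LinearMap.comp_apply, hcomm, LinearMap.comp_apply,
      LinearMap.mem_ker.1 hp, map_zero]
  choose b hb hxb using fun t => exists_approx v hv e eM vv hcomm hd hsM (x := x) hx (s + t)
  obtain ⟨n, g, hg⟩ := Submodule.fg_iff_exists_fin_generating_family.1
    (Submodule.FG.pow hI (s - c))
  have hgI : Ideal.span (Set.range g) = I ^ (s - c) := hg
  have h0 : e (b 0) ∈ I ^ (s - c) • LinearMap.ker vv := by
    have h1 : e (b 0) ∈ I ^ s • (⊤ : Submodule A PP) := by
      have := sub_mem hxs (hxb 0)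
      rwa [sub_sub_cancel] at this
    have := mem_map_of_mem (f := e) (hc s _ (hb 0) (hsP s _ h1))
    rw [map_smul''] at this
    exact smul_mono le_rfl (map_le_iff_le_comap.2 hker) this
  have hstep : ∀ t, b (t + 1) - b t ∈ Ideal.span (Set.range g) • (I ^ t • LinearMap.ker v) := by
    intro t
    have h1 : e (b (t + 1) - b t) ∈ I ^ (s + t) • (⊤ : Submodule A PP) := by
      have := sub_mem (hxb t) (smul_mono_left (Ideal.pow_le_pow_right (by omega : s + t ≤ s + (t + 1)))
        (hxb (t + 1)))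
      rw [map_sub]
      rwa [sub_sub_sub_cancel_left] at this
    have h2 := hc (s + t) _ (sub_mem (hb (t + 1)) (hb t)) (hsP _ _ h1)
    rwa [hgI, ← mul_smul, ← pow_add, show s - c + t = s + t - c by omega]
  choose d hd' hdb using fun t => exists_sum_of_mem_span_smul g _ (hstep t)
  have hde : ∀ t i, e (d t i) ∈ I ^ t • LinearMap.ker vv := fun t i => by
    have := mem_map_of_mem (f := e) (hd' t i)
    rw [map_smul''] at this
    exact smul_mono le_rfl (map_le_iff_le_comap.2 hker) this
  let S : Fin n → ℕ → PP := fun i t => ∑ q ∈ Finset.range t, e (d q i)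
  have hSc : ∀ i {a a' : ℕ}, a ≤ a' → S i a' - S i a ∈ I ^ a • (⊤ : Submodule A PP) := by
    intro i a a' h
    simp only [S]
    rw [← Finset.sum_Ico_eq_sub _ h]
    refine sum_mem fun q hq => ?_
    exact smul_mono (Ideal.pow_le_pow_right (Finset.mem_Ico.1 hq).1) le_top (hde q i)
  have hlim : ∀ i, ∃ Y, ∀ t, S i t ≡ Y [SMOD (I ^ t • ⊤ : Submodule A PP)] := fun i =>
    IsPrecomplete.prec (I := I) ‹IsPrecomplete I PP› (f := S i) fun {a a'} h => by
      rw [SModEq.comm, SModEq.sub_mem]
      exact hSc i h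
  choose Y hY using hlim
  have hY0 : ∀ i, vv (Y i) = 0 := fun i => IsHausdorff.haus ‹IsHausdorff I MM› _ fun t => by
    rw [SModEq.zero]
    have h1 : vv (S i t) = 0 := by
      simp only [S, map_sum]
      exact Finset.sum_eq_zero fun q _ => LinearMap.mem_ker.1 (smul_le_right (hde q i))
    have h2 := mem_map_of_mem (f := vv) (SModEq.sub_mem.1 (hY i t).symm)
    rw [map_smul'', map_sub, h1, sub_zero] at h2
    exact smul_mono le_rfl le_top h2
  have hsum : ∀ t, e (b 0) + ∑ i, g i • S i t = e (b t) := by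
    intro t
    induction t with
    | zero => simp [S]
    | succ t ih =>
      have h1 : ∀ i, S i (t + 1) = S i t + e (d t i) := fun i => Finset.sum_range_succ _ _
      simp only [h1, smul_add, Finset.sum_add_distrib, ← add_assoc, ih]
      simp only [← map_smul, ← map_sum, ← map_add]
      rw [← hdb t, add_sub_cancel]
  have heq : x = e (b 0) + ∑ i, g i • Y i := by
    refine sub_eq_zero.1 (IsHausdorff.haus ‹IsHausdorff I PP› _ fun t => ?_)
    rw [SModEq.zero]
    have h1 : x - (e (b 0) + ∑ i, g i • Y i) = (x - e (b t)) + ∑ i, g i • (S i t - Y i) := by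
      rw [← hsum t]
      simp only [smul_sub, Finset.sum_sub_distrib]
      abel
    rw [h1]
    refine add_mem (smul_mono_left (Ideal.pow_le_pow_right (by omega)) (hxb t)) (sum_mem fun i _ => ?_)
    exact smul_mem _ _ (SModEq.sub_mem.1 (hY i t))
  rw [heq]
  refine add_mem h0 (sum_mem fun i _ => smul_mem_smul ?_ (hY0 i))
  rw [← hgI]
  exact Ideal.subset_span ⟨i, rfl⟩

end Shift

section Local

variable {A : Type u} [CommRing A] {I : Ideal A} {A' : Type u} [CommRing A'] [Algebra A A']
  (g : A) [IsLocalization.Away g A'] {M M' : Type u} [AddCommGroup M] [Module A M]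
  [AddCommGroup M'] [Module A M'] [Module A' M'] [IsScalarTower A A' M'] (f : M →ₗ[A] M')
  [IsLocalizedModule.Away g f] {l : ℕ} (m : Fin l → M)

omit [IsLocalization.Away g A'] in
theorem f_linearCombination (a : Fin l → A) :
    Fintype.linearCombination A' (fun i => f (m i)) (fun i => algebraMap A A' (a i)) =
      f (Fintype.linearCombination A m a) := by
  simp [Fintype.linearCombination_apply, algebraMap_smul]

include g in
omit [Module A' M'] [IsScalarTower A A' M'] [IsLocalizedModule.Away g f] in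
theorem exists_clear (x : Fin l → A') :
    ∃ (N : ℕ) (a : Fin l → A), ∀ i, algebraMap A A' g ^ N * x i = algebraMap A A' (a i) := by
  have h : ∀ i, ∃ (k : ℕ) (b : A), x i * algebraMap A A' g ^ k = algebraMap A A' b := fun i => by
    obtain ⟨⟨b, ⟨_, k, rfl⟩⟩, hb⟩ := IsLocalization.surj (Submonoid.powers g) (x i)
    exact ⟨k, b, by rw [← map_pow]; exact hb⟩
  choose k b hb using h
  refine ⟨∑ i, k i, fun i => g ^ ((∑ j, k j) - k i) * b i, fun i => ?_⟩
  rw [map_mul, map_pow, ← hb, mul_comm (x i), ← mul_assoc, ← pow_add, Nat.sub_add_cancel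
    (Finset.single_le_sum (fun j _ => Nat.zero_le (k j)) (Finset.mem_univ i))]

include g in
omit [Module A' M'] [IsScalarTower A A' M'] [IsLocalizedModule.Away g f] in
theorem exists_pow_smul_mem {s : ℕ} {a : Fin l → A}
    (h : ∀ i, algebraMap A A' (a i) ∈ I.map (algebraMap A A') ^ s) :
    ∃ N, g ^ N • a ∈ I ^ s • (⊤ : Submodule A (Fin l → A)) := by
  have h' : ∀ i, ∃ N, g ^ N * a i ∈ I ^ s := fun i => by
    have hi := h i
    rw [← Ideal.map_pow, IsLocalization.mem_map_algebraMap_iff (Submonoid.powers g)] at hi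
    obtain ⟨⟨⟨y, hy⟩, ⟨_, k, rfl⟩⟩, hz⟩ := hi
    rw [← map_mul, IsLocalization.eq_iff_exists (Submonoid.powers g)] at hz
    obtain ⟨⟨_, j, rfl⟩, hj⟩ := hz
    refine ⟨j + k, ?_⟩
    rw [pow_add, mul_assoc, mul_comm (g ^ k)]
    exact hj ▸ Ideal.mul_mem_left _ _ hy
  choose N hN using h'
  refine ⟨∑ i, N i, Adic.Complete.mem_smul_top_pi fun i => ?_⟩
  obtain ⟨q, hq⟩ := Nat.exists_eq_add_of_le
    (Finset.single_le_sum (fun j _ => Nat.zero_le (N j)) (Finset.mem_univ i))
  rw [Pi.smul_apply, smul_eq_mul, hq, add_comm, pow_add, mul_assoc]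
  exact Ideal.mul_mem_left _ _ (hN i)

include g in
/-- An element of the localised kernel, times a power of `g`, comes from the kernel. -/
theorem exists_ker_of_ker {x : Fin l → A'}
    (hx : Fintype.linearCombination A' (fun i => f (m i)) x = 0) :
    ∃ (N : ℕ) (a : Fin l → A), a ∈ LinearMap.ker (Fintype.linearCombination A m) ∧
      ∀ i, algebraMap A A' g ^ N * x i = algebraMap A A' (a i) := by
  obtain ⟨N, a, ha⟩ := exists_clear g x
  have h1 : f (Fintype.linearCombination A m a) = f 0 := by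
    rw [map_zero, ← f_linearCombination (A' := A') f m, show (fun i => algebraMap A A' (a i)) =
      algebraMap A A' g ^ N • x from funext fun i => (ha i).symm, map_smul, hx, smul_zero]
  obtain ⟨⟨_, k, rfl⟩, hk⟩ := (IsLocalizedModule.eq_iff_exists (Submonoid.powers g) f).1 h1
  refine ⟨k + N, g ^ k • a, ?_, fun i => ?_⟩
  · rw [LinearMap.mem_ker, map_smul]
    exact hk.trans (smul_zero _)
  · rw [pow_add, mul_assoc, ha, Pi.smul_apply, smul_eq_mul, map_mul, map_pow]

include g in
/-- Artin–Rees bounds localise. -/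
theorem kerShift_localization {c : ℕ} (hc : KerShift I (Fintype.linearCombination A m) c) :
    KerShift (I.map (algebraMap A A')) (Fintype.linearCombination A' fun i => f (m i)) c := by
  intro s x hx hxs
  obtain ⟨N, a, ha, hax⟩ := exists_ker_of_ker g f m (LinearMap.mem_ker.1 hx)
  obtain ⟨j, hj⟩ := exists_pow_smul_mem g (I := I) (A' := A') (a := a) (s := s) fun i => by
    rw [← hax]
    exact Ideal.mul_mem_left _ _ (Adic.Complete.mem_of_mem_smul_top_pi hxs i)
  have h1 := hc s _ (Submodule.smul_mem _ (g ^ j) ha) hj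
  have h2 : ∀ y ∈ I ^ (s - c) • LinearMap.ker (Fintype.linearCombination A m),
      (fun i => algebraMap A A' (y i)) ∈
        I.map (algebraMap A A') ^ (s - c) •
          LinearMap.ker (Fintype.linearCombination A' fun i => f (m i)) := by
    intro y hy
    refine Submodule.smul_induction_on hy (fun r hr z hz => ?_) fun p q hp hq => ?_
    · rw [show (fun i => algebraMap A A' ((r • z) i)) =
        algebraMap A A' r • fun i => algebraMap A A' (z i) from
          funext fun i => by simp [map_mul]]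
      refine Submodule.smul_mem_smul (by rw [← Ideal.map_pow]; exact Ideal.mem_map_of_mem _ hr) ?_
      rw [LinearMap.mem_ker, f_linearCombination, LinearMap.mem_ker.1 hz, map_zero]
    · rw [show (fun i => algebraMap A A' ((p + q) i)) =
        (fun i => algebraMap A A' (p i)) + fun i => algebraMap A A' (q i) from
          funext fun i => map_add _ _ _]
      exact add_mem hp hq
  have h3 := h2 _ h1
  rw [show (fun i => algebraMap A A' ((g ^ j • a) i)) = algebraMap A A' g ^ (j + N) • x from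
    funext fun i => by simp [map_mul, map_pow, pow_add, mul_assoc, hax]] at h3
  exact (Submodule.smul_mem_iff_of_isUnit _
    ((IsLocalization.Away.algebraMap_isUnit g).pow (j + N))).1 h3

end Local

section Cover

variable {A : Type u} [CommRing A] {I : Ideal A}

/-- A kernel finitely generated modulo a high power of the ideal locally is finitely generated. -/
theorem fg_ker_of_cover [IsPrecomplete I A] [IsHausdorff I A] {M : Type u} [AddCommGroup M]
    [Module A M] {l : ℕ} (φ : (Fin l → A) →ₗ[A] M) {c : ℕ} (hc : KerShift I φ c) (G : Finset A)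
    (hG : Ideal.span (G : Set A) = ⊤) (T : A → Submodule A (Fin l → A)) (hT : ∀ g ∈ G, (T g).FG)
    (hTle : ∀ g ∈ G, T g ≤ LinearMap.ker φ)
    (h : ∀ g ∈ G, ∀ x ∈ LinearMap.ker φ, ∃ N, g ^ N • x ∈ T g ⊔ I ^ (c + 1) • ⊤) :
    (LinearMap.ker φ).FG := by
  have hfg : (G.sup T).FG := by
    classical
    clear h hG
    induction G using Finset.induction with
    | empty => exact Finset.sup_empty (f := T) ▸ Submodule.fg_bot
    | @insert a s ha ih =>
      rw [Finset.sup_insert]
      exact (hT a (Finset.mem_insert_self a s)).sup (ih (fun g hg => hT g (Finset.mem_insert_of_mem hg))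
        fun g hg => hTle g (Finset.mem_insert_of_mem hg))
  haveI : IsHausdorff I (Fin l → A) := isHausdorff_pi (Fin l)
  rw [ker_eq_of_le_sup φ hc hfg (Finset.sup_le hTle) ?_]
  · exact hfg
  intro x hx
  let S : Ideal A := (G.sup T ⊔ I ^ (c + 1) • ⊤).comap (LinearMap.toSpanSingleton A _ x)
  have hS : S.radical = ⊤ := by
    rw [eq_top_iff, ← hG, Ideal.span_le]
    intro g hg
    obtain ⟨N, hN⟩ := h g hg x hx
    have hle : T g ⊔ I ^ (c + 1) • ⊤ ≤ G.sup T ⊔ I ^ (c + 1) • ⊤ :=
      sup_le_sup_right (Finset.le_sup hg) _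
    exact ⟨N, hle hN⟩
  have h1 : (1 : A) ∈ S := by
    rw [Ideal.radical_eq_top.1 hS]
    trivial
  simpa [S] using h1

end Cover

end Groth.Agent.Lib.FormalCompl.CompleteAlg
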