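import Groth.Agent.Lib.FormalCompl.AffineLevels
import Groth.Agent.Lib.FormalCompl.CompleteAlg
import Groth.Agent.H30.FSch.CohPres

/-!
# Presentations of the completion of a finite module over a basic open (helper5)
-/

set_option autoImplicit false
set_option linter.style.haveILetI false
set_option maxHeartbeats 800000

universe u

open CategoryTheory CategoryTheory.Limits AlgebraicGeometry TopologicalSpace Opposite
open Groth.Agent.H30 Groth.Agent.H30.RealLimSec
open Groth.Agent.Lib Groth.Agent.Lib.FormalCompl.Sec Groth.Agent.Lib.FormalCompl.TildeHom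
open Groth.Agent.Lib.FormalCompl.AffineLevels Groth.Agent.Lib.FormalCompl.CompleteAlg

namespace Groth.Agent.Lib.FormalCompl.CohLocal

section Base

variable {A B : Type u} [CommRing A] [CommRing B] [Algebra A B] {I : Ideal A}

theorem mem_map_pow_smul_top {P : Type u} [AddCommGroup P] [Module A P] [Module B P]
    [IsScalarTower A B P] (s : ℕ) (x : P) :
    x ∈ I.map (algebraMap A B) ^ s • (⊤ : Submodule B P) ↔ x ∈ I ^ s • (⊤ : Submodule A P) := by
  rw [← Ideal.map_pow, ← Submodule.restrictScalars_mem A, Ideal.smul_restrictScalars,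
    Submodule.restrictScalars_top]

/-- Artin–Rees bounds for kernels do not depend on the base ring. -/
theorem kerShift_base_change {P G : Type u} [AddCommGroup P] [Module A P] [Module B P]
    [IsScalarTower A B P] [AddCommGroup G] [Module A G] [Module B G] [IsScalarTower A B G]
    (φ : P →ₗ[B] G) {c : ℕ} (h : KerShift I (φ.restrictScalars A) c) :
    KerShift (I.map (algebraMap A B)) φ c := by
  intro s x hx hxs
  rw [mem_map_pow_smul_top] at hxs
  rw [← Ideal.map_pow, ← Submodule.restrictScalars_mem A, Ideal.smul_restrictScalars]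
  exact h s x hx hxs

theorem mem_smul_top_pi_iff {ι : Type} [Fintype ι] (J : Ideal A) (x : ι → B) :
    x ∈ J • (⊤ : Submodule A (ι → B)) ↔ ∀ i, x i ∈ J • (⊤ : Submodule A B) := by
  classical
  constructor
  · intro hx i
    have := Submodule.mem_map_of_mem (f := (LinearMap.proj i : (ι → B) →ₗ[A] B)) hx
    rw [Submodule.map_smul''] at this
    exact Submodule.smul_mono le_rfl le_top this
  · intro hx
    rw [show x = ∑ i, LinearMap.single A (fun _ => B) i (x i) from (Finset.univ_sum_single x).symm]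
    refine Submodule.sum_mem _ fun i _ => ?_
    have := Submodule.mem_map_of_mem (f := LinearMap.single A (fun _ : ι => B) i) (hx i)
    rw [Submodule.map_smul''] at this
    exact Submodule.smul_mono le_rfl le_top this

end Base

variable {A : CommRingCat.{u}} {J : Ideal A}
  (h : (FSch.completionAlong (Spec A) (FSch.idealSpec A J)).IsFormal)

local notation "cx" => FSch.completionToX_comm (Spec A) (FSch.idealSpec A J)

set_option backward.isDefEq.respectTransparency.types false in
instance isAway (g : A) : IsLocalization.Away g Γ(Spec A, (TildeSec.D g).1) :=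
  inferInstanceAs (IsLocalization.Away g Γ(Spec A, PrimeSpectrum.basicOpen g))

/-- Generators and relations, known modulo all powers, present the completion over a basic open;
the relations between global generators are then finitely generated modulo a power, up to `g`. -/
theorem local_spec (hJ : J.FG) (M : ModuleCat.{u} A) (g : A) {l : ℕ} (μ : Fin l → M)
    (hμ : Function.Surjective (Fintype.linearCombination A μ)) {c : ℕ}
    (hc : KerShift J (Fintype.linearCombination A μ) c) {n m : ℕ}
    (f : Fin n → sec h (cmp h (TildeSec.pp J) cx (tilde M)) (ComplSec.pre (TildeSec.pp J) (TildeSec.D g).1))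
    (r : Fin m → Fin n → Levels.A _ h (ComplSec.pre (TildeSec.pp J) (TildeSec.D g).1))
    (hrel : ∀ j, ∑ i, r j i • f i = 0)
    (hgen : ∀ y, ∃ b : Fin n → Levels.A _ h (ComplSec.pre (TildeSec.pp J) (TildeSec.D g).1),
      pr h (TildeSec.pp J) cx (tilde M) 0 (TildeSec.D g).1 (y - ∑ i, b i • f i) = 0)
    (hex : ∀ (k : ℕ) (a : Fin n → Levels.A _ h (ComplSec.pre (TildeSec.pp J) (TildeSec.D g).1)),
      pr h (TildeSec.pp J) cx (tilde M) k (TildeSec.D g).1 (∑ i, a i • f i) = 0 →
      ∃ d : Fin m → Levels.A _ h (ComplSec.pre (TildeSec.pp J) (TildeSec.D g).1),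
        ∀ i, Levels.proj _ h k (ComplSec.pre (TildeSec.pp J) (TildeSec.D g).1)
          (a i - ∑ j, d j * r j i) = 0) :
    (∀ y, ∃ b : Fin n → Levels.A _ h (ComplSec.pre (TildeSec.pp J) (TildeSec.D g).1),
        y = ∑ i, b i • f i) ∧
      (∀ a : Fin n → Levels.A _ h (ComplSec.pre (TildeSec.pp J) (TildeSec.D g).1),
        ∑ i, a i • f i = 0 → ∃ d : Fin m → Levels.A _ h (ComplSec.pre (TildeSec.pp J) (TildeSec.D g).1),
          ∀ i, a i = ∑ j, d j * r j i) ∧
      ∃ T : Submodule A (Fin l → A), T.FG ∧ T ≤ LinearMap.ker (Fintype.linearCombination A μ) ∧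
        ∀ x ∈ LinearMap.ker (Fintype.linearCombination A μ),
          ∃ N, g ^ N • x ∈ T ⊔ J ^ (c + 1) • ⊤ := by
  let U := TildeSec.D g
  let V := ComplSec.pre (TildeSec.pp J) U.1
  let A' := Γ(Spec A, U.1)
  let B := Levels.A (FSch.completionAlong (Spec A) (FSch.idealSpec A J)) h V
  let N := Γ(tilde M, U.1)
  let L := sec h (cmp h (TildeSec.pp J) cx (tilde M)) V
  letI : Algebra A' B := algA h (TildeSec.pp J) cx U.1
  letI : Module A' L := secMod h (TildeSec.pp J) cx (cmp h (TildeSec.pp J) cx (tilde M)) U.1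
  haveI : IsScalarTower A' B L := IsScalarTower.of_algebraMap_smul fun _ _ => rfl
  let I : Ideal A' := (TildeSec.pp J 0).ker.ideal U
  have hI : I = J.map (algebraMap A A') := by
    show (TildeSec.pp J 0).ker.ideal (TildeSec.D g) = _
    rw [TildeSec.ker_ideal, zero_add, pow_one]
  have hIfg : I.FG := hI ▸ Ideal.FG.map hJ _
  obtain ⟨hBc, hBk⟩ := ring_spec h (TildeSec.pp J) cx (TildeSec.hker J) U hIfg
  obtain ⟨hLc, hLk⟩ := sec_spec h (TildeSec.pp J) cx (TildeSec.hker J) U hIfg (tilde M)
  haveI : IsAdicComplete I B := hBc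
  haveI : IsAdicComplete I L := hLc
  haveI hBc' : IsAdicComplete (I.map (algebraMap A' B)) B := (IsAdicComplete.map_algebraMap_iff I B).2 hBc
  haveI hLc' : IsAdicComplete (I.map (algebraMap A' B)) L := (IsAdicComplete.map_algebraMap_iff I L).2 hLc
  haveI hPc' : ∀ t : ℕ, IsAdicComplete (I.map (algebraMap A' B)) (Fin t → B) := fun t =>
    { toIsHausdorff := isHausdorff_pi (Fin t)
      toIsPrecomplete := Adic.Complete.isPrecomplete_pi (Fin t) }
  haveI hPc : IsAdicComplete I (Fin l → B) :=
    (IsAdicComplete.map_algebraMap_iff I (Fin l → B)).1 (hPc' l)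
  -- the algebraic presentation and its completion
  let v : (Fin l → A') →ₗ[A'] N := Fintype.linearCombination A' fun i => TildeSec.tloc M g (μ i)
  have hv : Function.Surjective v := by
    intro x
    obtain ⟨i, x', hx⟩ := TildeSec.exists_tloc M g x
    obtain ⟨a, rfl⟩ := hμ x'
    obtain ⟨u, hu⟩ := (IsLocalization.Away.algebraMap_isUnit (S := A') g).pow i
    refine ⟨(↑u⁻¹ : A') • fun q => algebraMap A A' (a q), ?_⟩
    rw [map_smul, show v (fun q => algebraMap A A' (a q)) =
      TildeSec.tloc M g (Fintype.linearCombination A μ a) from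
        f_linearCombination (A' := A') (TildeSec.tloc M g) μ a, ← hx,
      ← algebraMap_smul A' (g ^ i) x, map_pow, ← hu, ← mul_smul, Units.inv_mul, one_smul]
  let eM : N →ₗ[A'] L :=
    { toFun := ehat h (TildeSec.pp J) cx (tilde M) U.1
      map_add' := ehat_add h (TildeSec.pp J) cx (tilde M) U.1
      map_smul' := TildeHom.ehat_smul h (TildeSec.pp J) cx (tilde M) U.1 }
  let e : (Fin l → A') →ₗ[A'] (Fin l → B) := (Algebra.linearMap A' B).compLeft (Fin l)
  let Q' : (Fin l → B) →ₗ[B] L := Fintype.linearCombination B fun i => eM (TildeSec.tloc M g (μ i))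
  have hcomm : (Q'.restrictScalars A') ∘ₗ e = eM ∘ₗ v := by
    refine LinearMap.ext fun a => ?_
    simp [Q', v, e, Fintype.linearCombination_apply, map_sum, algebraMap_smul]
  have hBmem : ∀ (j : ℕ) (a : A'), algebraMap A' B a ∈ I ^ j • (⊤ : Submodule A' B) → a ∈ I ^ j := by
    intro j a ha
    cases j with
    | zero => simp
    | succ j =>
      rw [← hBk] at ha
      show a ∈ (TildeSec.pp J 0).ker.ideal U ^ (j + 1)
      rw [← TildeSec.hker J, ← appLE_eq_zero_iff h (TildeSec.pp J) cx j U,
        ← TildeHom.proj_shA h (TildeSec.pp J) cx]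
      exact ha
  have hBdense : ∀ (j : ℕ) (b : B), ∃ a : A', b - algebraMap A' B a ∈ I ^ j • (⊤ : Submodule A' B) := by
    intro j b
    obtain ⟨a, ha⟩ := surjective_appLE h (TildeSec.pp J) cx j U.2 (Levels.proj _ h j V b)
    refine ⟨a, Submodule.smul_mono_left (Ideal.pow_le_pow_right j.le_succ) ((hBk j _).1 ?_)⟩
    rw [map_sub, sub_eq_zero]
    exact ha.symm.trans (TildeHom.proj_shA h (TildeSec.pp J) cx j U.1 a).symm
  have hd : ∀ j (x : Fin l → B), ∃ p, x - e p ∈ I ^ j • (⊤ : Submodule A' (Fin l → B)) := by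
    intro j x
    choose a ha using fun i => hBdense j (x i)
    exact ⟨a, (mem_smul_top_pi_iff _ _).2 fun i => ha i⟩
  have hsP : ∀ j p, e p ∈ I ^ j • (⊤ : Submodule A' (Fin l → B)) →
      p ∈ I ^ j • (⊤ : Submodule A' (Fin l → A')) := fun j p hp =>
    Adic.Complete.mem_smul_top_pi fun i => hBmem j (p i) ((mem_smul_top_pi_iff _ _).1 hp i)
  have hsM : ∀ j x, eM x ∈ I ^ j • (⊤ : Submodule A' L) → x ∈ I ^ j • (⊤ : Submodule A' N) := by
    intro j x hx
    cases j with
    | zero => simp
    | succ j =>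
      rw [← hLk] at hx
      show x ∈ (TildeSec.pp J 0).ker.ideal U ^ (j + 1) • (⊤ : Submodule A' N)
      rw [← TildeSec.hker J, ← ComplSec.σ_eq_zero_iff h (TildeSec.pp J) cx (tilde M) j U.2,
        ← pr_ehat h (TildeSec.pp J) cx]
      exact hx
  have hv' : KerShift I v c := hI ▸ kerShift_localization g (TildeSec.tloc M g) μ hc
  have hP'A : KerShift I (Q'.restrictScalars A') c :=
    kerShift_completion hIfg v hv e eM (Q'.restrictScalars A') hcomm hd hsP hsM hv'
  have hP' : KerShift (I.map (algebraMap A' B)) Q' c := kerShift_base_change Q' hP'A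
  let Q₀ : (Fin n → B) →ₗ[B] L := Fintype.linearCombination B f
  have hQ : ∀ a, Q₀ a = ∑ i, a i • f i := fun a => Fintype.linearCombination_apply _ _ a
  -- surjectivity
  have hsurj : ∀ {t : ℕ} (φ : (Fin t → B) →ₗ[B] L),
      (∀ y, ∃ b, pr h (TildeSec.pp J) cx (tilde M) 0 U.1 (y - φ b) = 0) → Function.Surjective φ := by
    intro t φ hφ
    rw [← LinearMap.range_eq_top, eq_top_iff]
    refine Adic.Complete.le_of_le_sup_smul (I := I.map (algebraMap A' B))
      (Module.Finite.iff_fg.1 inferInstance) le_top fun y _ => ?_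
    obtain ⟨b, hb⟩ := hφ y
    refine Submodule.mem_sup.2 ⟨_, ⟨b, rfl⟩, y - φ b, ?_, add_sub_cancel _ _⟩
    rw [← pow_one (I.map (algebraMap A' B)), mem_map_pow_smul_top]
    exact (hLk 0 _).1 hb
  have hs0 : Function.Surjective Q₀ := hsurj Q₀ fun y => by simpa only [hQ] using hgen y
  have hs' : Function.Surjective Q' := hsurj Q' fun y => by
    obtain ⟨w, hw⟩ := ComplSec.σ_surjective h (TildeSec.pp J) cx (tilde M) 0 U.2
      (pr h (TildeSec.pp J) cx (tilde M) 0 U.1 y)
    obtain ⟨a, rfl⟩ := hv w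
    refine ⟨e a, ?_⟩
    rw [map_sub, sub_eq_zero, ← hw, ← pr_ehat h (TildeSec.pp J) cx]
    exact congrArg _ (LinearMap.congr_fun hcomm a).symm
  -- compare the two sets of generators
  choose α₀ hα₀ using fun i => hs' (f i)
  choose β₀ hβ₀ using fun i => hs0 (eM (TildeSec.tloc M g (μ i)))
  let α : (Fin n → B) →ₗ[B] (Fin l → B) := Fintype.linearCombination B α₀
  let β : (Fin l → B) →ₗ[B] (Fin n → B) := Fintype.linearCombination B β₀
  have hα : Q' ∘ₗ α = Q₀ := LinearMap.ext fun a => by
    simp [α, hQ, Fintype.linearCombination_apply, map_sum, hα₀]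
  have hβ : Q₀ ∘ₗ β = Q' := LinearMap.ext fun a => by
    rw [LinearMap.comp_apply]
    simp only [β, Fintype.linearCombination_apply, map_sum, map_smul, hβ₀, Q']
  have hP0 : KerShift (I.map (algebraMap A' B)) Q₀ c := kerShift_of Q₀ Q' α β hα hβ hP'
  have hle : Submodule.span B (Set.range r) ≤ LinearMap.ker Q₀ := by
    rw [Submodule.span_le]
    rintro _ ⟨j, rfl⟩
    exact (hQ (r j)).trans (hrel j)
  have hker0 : LinearMap.ker Q₀ = Submodule.span B (Set.range r) := by
    refine ker_eq_of_le_sup Q₀ hP0 (Submodule.fg_span (Set.finite_range r)) hle fun x hx => ?_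
    obtain ⟨d, hd'⟩ := hex c x (by
      rw [← hQ, LinearMap.mem_ker.1 hx]
      exact map_zero _)
    refine Submodule.mem_sup.2 ⟨∑ j, d j • r j, Submodule.sum_mem _ fun j _ =>
      Submodule.smul_mem _ _ (Submodule.subset_span ⟨j, rfl⟩), x - ∑ j, d j • r j, ?_, add_sub_cancel _ _⟩
    refine Adic.Complete.mem_smul_top_pi fun i => ?_
    rw [← Adic.Complete.pow_mul_top, mem_map_pow_smul_top, ← hBk]
    simpa [Finset.sum_apply] using hd' i
  refine ⟨fun y => (hs0 y).imp fun b hb => hb.symm.trans (hQ b), fun a ha => ?_, ?_⟩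
  · obtain ⟨d, hd'⟩ := (Submodule.mem_span_range_iff_exists_fun B).1
      (hker0 ▸ (show a ∈ LinearMap.ker Q₀ from (hQ a).trans ha))
    exact ⟨d, fun i => by rw [← hd']; simp [Finset.sum_apply]⟩
  -- finitely many relations between the global generators suffice
  obtain ⟨t, w, hw⟩ := Submodule.fg_iff_exists_fin_generating_family.1
    (fg_ker_of Q₀ Q' α β hα hβ (hker0 ▸ Submodule.fg_span (Set.finite_range r)))
  have hwk : ∀ q, Q' (w q) = 0 := fun q => LinearMap.mem_ker.1 (hw ▸ Submodule.subset_span ⟨q, rfl⟩)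
  choose pa hpak hpaw using fun q =>
    exists_approx v hv e eM (Q'.restrictScalars A') hcomm hd hsM (x := w q) (hwk q) (c + 1)
  choose Nq aq haq haqe using fun q =>
    exists_ker_of_ker g (TildeSec.tloc M g) μ (LinearMap.mem_ker.1 (hpak q))
  refine ⟨Submodule.span A (Set.range aq), Submodule.fg_span (Set.finite_range aq),
    Submodule.span_le.2 (Set.range_subset_iff.2 haq), fun x hx => ?_⟩
  let x' : Fin l → A' := fun i => algebraMap A A' (x i)
  have hx' : v x' = 0 :=
    (f_linearCombination (A' := A') (TildeSec.tloc M g) μ x).trans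
      ((congrArg _ (LinearMap.mem_ker.1 hx)).trans (map_zero _))
  have hex' : e x' ∈ Submodule.span B (Set.range w) := by
    rw [hw, LinearMap.mem_ker]
    exact (LinearMap.congr_fun hcomm x').trans ((congrArg eM hx').trans (map_zero _))
  obtain ⟨b, hb⟩ := (Submodule.mem_span_range_iff_exists_fun B).1 hex'
  choose a' ha' using fun q => hBdense (c + 1) (b q)
  have h1 : e (x' - ∑ q, a' q • pa q) ∈ I ^ (c + 1) • (⊤ : Submodule A' (Fin l → B)) := by
    rw [map_sub, map_sum, ← hb, ← Finset.sum_sub_distrib]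
    refine Submodule.sum_mem _ fun q _ => ?_
    rw [map_smul, show b q • w q - a' q • e (pa q) =
      (b q - algebraMap A' B (a' q)) • w q + a' q • (w q - e (pa q)) by
        rw [sub_smul, algebraMap_smul, smul_sub]; abel]
    refine Submodule.add_mem _ ((mem_smul_top_pi_iff _ _).2 fun i => ?_) (Submodule.smul_mem _ _ (hpaw q))
    rw [← mem_map_pow_smul_top (B := B), Adic.Complete.pow_mul_top, Pi.smul_apply, smul_eq_mul]
    refine Ideal.mul_mem_right _ _ ?_
    rw [← Adic.Complete.pow_mul_top, mem_map_pow_smul_top]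
    exact ha' q
  have h2 := hsP _ _ h1
  obtain ⟨Na, α', hα'⟩ := exists_clear g a'
  let Nt := ∑ q, Nq q
  let y : Fin l → A := g ^ (Nt + Na) • x - ∑ q, (α' q * g ^ (Nt - Nq q)) • aq q
  have hy : ∀ i, algebraMap A A' (y i) =
      algebraMap A A' g ^ (Nt + Na) * (x' - ∑ q, a' q • pa q) i := by
    intro i
    simp only [y, x', Pi.sub_apply, Pi.smul_apply, Finset.sum_apply, smul_eq_mul, map_sub, map_mul,
      map_sum, map_pow, mul_sub, Finset.mul_sum]
    congr 1
    refine Finset.sum_congr rfl fun q _ => ?_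
    obtain ⟨r', hr'⟩ := Nat.exists_eq_add_of_le
      (Finset.single_le_sum (fun j _ => Nat.zero_le (Nq j)) (Finset.mem_univ q))
    rw [← hα' q, ← haqe q i, show Nt = Nq q + r' from hr', Nat.add_sub_cancel_left]
    ring
  obtain ⟨k, hk⟩ := exists_pow_smul_mem g (I := J) (A' := A') (a := y) (s := c + 1) fun i => by
    rw [hy, ← hI]
    exact Ideal.mul_mem_left _ _ (Adic.Complete.mem_of_mem_smul_top_pi h2 i)
  refine ⟨k + (Nt + Na), Submodule.mem_sup.2 ⟨g ^ k • ∑ q, (α' q * g ^ (Nt - Nq q)) • aq q, ?_, _, hk, ?_⟩⟩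
  · exact Submodule.smul_mem _ _ (Submodule.sum_mem _ fun q _ =>
      Submodule.smul_mem _ _ (Submodule.subset_span ⟨q, rfl⟩))
  · simp only [y, smul_sub, pow_add, mul_smul, add_sub_cancel]

end Groth.Agent.Lib.FormalCompl.CohLocal
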