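import Groth.Prelude.Def_Formal2
import Groth.Agent.H30.FSch.ComplPull
import Groth.Agent.H78.Formal.Sys
import Groth.Agent.Lib.ZarCoh.Affine
import Groth.Agent.Lib.Modules.ToSheaf
import Groth.Agent.S2371
import Groth.Agent.S0459
import Groth.Agent.Lib.Cyc.FP.Stalk

/-!
# Cohomology of the completion of a coherent module
-/

set_option linter.style.haveILetI false

universe u

open CategoryTheory CategoryTheory.Limits AlgebraicGeometry TopologicalSpace Opposite
open Groth.Agent.H30 Groth.Agent.H30.RealLimSec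
open Groth.Agent.H78.Formal (Sections.sIdeal)

namespace Groth.Agent.Lib.FormalCompl.Cohom

variable {A : Type u} [CommRing A] {X : Scheme.{u}} [X.Over (Spec (CommRingCat.of A))]
  [IsLocallyNoetherian X] {𝔛 : FSch.Sys.{u}} (h𝔛 : 𝔛.IsLocNoethFormal)
  (p : ∀ n, 𝔛.X n ⟶ X) (hp : ∀ n, 𝔛.ι n ≫ p (n + 1) = p n) [∀ k, IsClosedImmersion (p k)]
  (I : Ideal A)
  (hI : ∀ k (U : X.affineOpens),
    (p k).ker.ideal U = H78.Formal.Sections.sIdeal I U.1 ^ (k + 1))
  (F : X.Modules)

local notation "PS" => ComplSec.pullSys p hp F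

/-- The reductions of `F` as abelian sheaves. -/
noncomputable abbrev redSys : ℕᵒᵖ ⥤ CohTop.Ab X :=
  _root_.Formal.completion I F ⋙ SheafOfModules.toSheaf _

/-- The completed module, as an abelian sheaf on `X`. -/
noncomputable abbrev pushLim : CohTop.Ab X :=
  (CohTop.push (p 0).base).obj
    (ModSite.toAb ((PS).realMod h𝔛.1))

/-- The levels of the completed module, as abelian sheaves on `X`. -/
noncomputable abbrev pushLev (k : ℕ) : CohTop.Ab X :=
  (CohTop.push (p 0).base).obj
    (ModSite.toAb ((FSch.levelMor 𝔛 h𝔛.1 k).push.obj ((PS).F k)))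

/-- The projections. -/
noncomputable def pushProj (k : ℕ) : pushLim h𝔛 p hp F ⟶ pushLev h𝔛 p hp F k :=
  (CohTop.push (p 0).base).map ((SheafOfModules.toSheaf _).map
    (FSch.realProj 𝔛 h𝔛.1 (PS).F (PS).toPush k))

/-- The transition maps. -/
noncomputable def pushTr (k : ℕ) : pushLev h𝔛 p hp F (k + 1) ⟶ pushLev h𝔛 p hp F k :=
  (CohTop.push (p 0).base).map ((SheafOfModules.toSheaf _).map
    ((FSch.levelMor 𝔛 h𝔛.1 (k + 1)).push.map ((PS).toPush k) ≫
      (FSch.pushCompare 𝔛 h𝔛.1 k).app ((PS).F k)))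

lemma pushProj_tr (k : ℕ) :
    pushProj h𝔛 p hp F (k + 1) ≫ pushTr h𝔛 p hp F k = pushProj h𝔛 p hp F k :=
  (Functor.map_comp _ _ _).symm.trans (congrArg (CohTop.push (p 0).base).map
    ((Functor.map_comp _ _ _).symm.trans (congrArg (SheafOfModules.toSheaf _).map
      (FSch.realProj_map 𝔛 h𝔛.1 (PS).F (PS).toPush k))))

/-- The map from `F` to a level. -/
noncomputable def toLev (k : ℕ) : Coh.toAb F ⟶ pushLev h𝔛 p hp F k :=
  ⟨{ app := fun U => AddCommGrpCat.ofHom (ComplSec.σ h𝔛.1 p hp F k U.unop)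
     naturality := fun U V f => ConcreteCategory.ext_apply fun m =>
       (ComplPull.σ_res h𝔛 p hp F k (leOfHom f.unop) m).symm }⟩

variable [F.IsQuasicoherent]

/-- Sheaf morphisms agree when they agree on affine opens. -/
lemma ab_hom_ext {S T : CohTop.Ab X} {φ ψ : S ⟶ T}
    (h : ∀ U : X.Opens, IsAffineOpen U → ∀ s, φ.hom.app (op U) s = ψ.hom.app (op U) s) :
    φ = ψ := by
  refine Sheaf.hom_ext (TopCat.Sheaf.hom_ext (F := S.obj) T
    (B := fun U : X.affineOpens => U.1) ?_ fun U => ?_)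
  · rw [Subtype.range_coe]
    exact X.isBasis_affineOpens
  · exact ConcreteCategory.ext_apply (h U.1 U.2)

lemma ab_isIso {S T : CohTop.Ab X} (φ : S ⟶ T)
    (h : ∀ U : X.Opens, IsAffineOpen U → Function.Bijective (φ.hom.app (op U))) : IsIso φ :=
  TopCat.Sheaf.isIso_iff_isIso_basis (B := fun U : X.affineOpens => U.1)
    (by rw [Subtype.range_coe]; exact X.isBasis_affineOpens)
    fun U => (ConcreteCategory.isIso_iff_bijective _).2 (h U.1 U.2)

include hI in
lemma σ_eq_zero_iff_modPowπ (k : ℕ) {U : X.Opens} (hU : IsAffineOpen U) (m : Γ(F, U)) :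
    ComplSec.σ h𝔛.1 p hp F k U m = 0 ↔
      (_root_.Formal.modPowπ I (k + 1) F).app U m = 0 := by
  rw [ComplSec.σ_eq_zero_iff h𝔛.1 p hp F k hU m, hI k ⟨U, hU⟩,
    H78.Formal.Sections.modPowπ_eq_zero_iff I (k + 1) hU m]

/-- The projection `F ⟶ F / I^(k+1)` as abelian sheaves. -/
noncomputable abbrev redπ (k : ℕ) : Coh.toAb F ⟶ (redSys I F).obj (op k) :=
  (SheafOfModules.toSheaf _).map (_root_.Formal.modPowπ I (k + 1) F)

instance epi_redπ (k : ℕ) : Epi (redπ I F k) := by
  haveI : Epi (_root_.Formal.modPowπ I (k + 1) F) := inferInstanceAs (Epi (cokernel.π _))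
  haveI : (SheafOfModules.toSheaf.{u} X.ringCatSheaf).PreservesEpimorphisms :=
    preservesEpimorphisms_of_preservesColimitsOfShape _
  let φ := _root_.Formal.modPowπ I (k + 1) F
  have hφ : Epi φ := inferInstanceAs (Epi (cokernel.π _))
  exact @Functor.map_epi _ _ _ _ (SheafOfModules.toSheaf.{u} X.ringCatSheaf) inferInstance _ _ φ hφ

lemma redπ_trans (k : ℕ) :
    redπ I F (k + 1) ≫ (redSys I F).map (homOfLE (Nat.le_succ k)).op = redπ I F k := by
  change _ ≫ (SheafOfModules.toSheaf _).map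
    ((_root_.Formal.completion I F).map (homOfLE (Nat.le_succ k)).op) = _
  refine (Functor.map_comp _ _ _).symm.trans (congrArg (SheafOfModules.toSheaf _).map ?_)
  simp only [_root_.Formal.completion, Functor.ofOpSequence_map_homOfLE_succ]
  exact _root_.Formal.modPowπ_trans I (k + 1) F

include hI in
lemma kernel_toLev (k : ℕ) : kernel.ι (redπ I F k) ≫ toLev h𝔛 p hp F k = 0 := by
  refine ab_hom_ext fun U hU s => ?_
  have h0 := ConcreteCategory.congr_hom
    (congrArg (fun χ => χ.hom.app (op U)) (kernel.condition (redπ I F k))) s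
  exact (σ_eq_zero_iff_modPowπ h𝔛 p hp I hI F k hU _).2 h0

/-- The comparison on a level. -/
noncomputable def redToLev (k : ℕ) : (redSys I F).obj (op k) ⟶ pushLev h𝔛 p hp F k :=
  Abelian.epiDesc (redπ I F k) (toLev h𝔛 p hp F k) (kernel_toLev h𝔛 p hp I hI F k)

lemma redπ_redToLev (k : ℕ) :
    redπ I F k ≫ redToLev h𝔛 p hp I hI F k = toLev h𝔛 p hp F k :=
  Abelian.comp_epiDesc _ _ _

lemma redToLev_app (k : ℕ) {U : X.Opens} (m : Γ(F, U)) :
    (redToLev h𝔛 p hp I hI F k).hom.app (op U) ((_root_.Formal.modPowπ I (k + 1) F).app U m) =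
      ComplSec.σ h𝔛.1 p hp F k U m :=
  ConcreteCategory.congr_hom
    (congrArg (fun χ => χ.hom.app (op U)) (redπ_redToLev h𝔛 p hp I hI F k)) m

instance isIso_redToLev (k : ℕ) : IsIso (redToLev h𝔛 p hp I hI F k) := by
  refine ab_isIso _ fun U hU => ⟨(injective_iff_map_eq_zero _).2 fun z hz => ?_, fun w => ?_⟩
  · obtain ⟨m, rfl⟩ := H78.Formal.Sections.modPowπ_surjective (M := F) I (k + 1) hU z
    exact (σ_eq_zero_iff_modPowπ h𝔛 p hp I hI F k hU m).1
      ((redToLev_app h𝔛 p hp I hI F k m).symm.trans hz)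
  · obtain ⟨m, rfl⟩ := ComplSec.σ_surjective h𝔛.1 p hp F k hU w
    exact ⟨_, redToLev_app h𝔛 p hp I hI F k m⟩

lemma redToLev_tr (k : ℕ) :
    redToLev h𝔛 p hp I hI F (k + 1) ≫ pushTr h𝔛 p hp F k =
      (redSys I F).map (homOfLE (Nat.le_succ k)).op ≫ redToLev h𝔛 p hp I hI F k := by
  rw [← cancel_epi (redπ I F (k + 1)), ← Category.assoc, redπ_redToLev, ← Category.assoc,
    redπ_trans, redπ_redToLev]
  exact Sheaf.hom_ext (NatTrans.ext (funext fun U => ConcreteCategory.ext_apply fun m =>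
    ComplSec.tr_σ h𝔛.1 p hp F h𝔛 k U.unop m))

lemma projRed_comp (k : ℕ) :
    (pushProj h𝔛 p hp F (k + 1) ≫ inv (redToLev h𝔛 p hp I hI F (k + 1))) ≫
        (redSys I F).map (homOfLE (Nat.le_succ k)).op =
      pushProj h𝔛 p hp F k ≫ inv (redToLev h𝔛 p hp I hI F k) := by
  rw [← cancel_mono (redToLev h𝔛 p hp I hI F k), Category.assoc, Category.assoc, ← redToLev_tr,
    IsIso.inv_hom_id_assoc, Category.assoc, IsIso.inv_hom_id, Category.comp_id, pushProj_tr]

/-- The comparison with the limit of the reductions. -/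
noncomputable def toLimit : pushLim h𝔛 p hp F ⟶ limit (redSys I F) :=
  limit.lift (redSys I F)
    { pt := pushLim h𝔛 p hp F
      π := NatTrans.ofOpSequence
        (fun k => pushProj h𝔛 p hp F k ≫ inv (redToLev h𝔛 p hp I hI F k))
        fun k => (Category.id_comp _).trans (projRed_comp h𝔛 p hp I hI F k).symm }

lemma toLimit_π (k : ℕ) :
    toLimit h𝔛 p hp I hI F ≫ limit.π (redSys I F) (op k) =
      pushProj h𝔛 p hp F k ≫ inv (redToLev h𝔛 p hp I hI F k) :=
  limit.lift_π _ _

instance isIso_toLimit : IsIso (toLimit h𝔛 p hp I hI F) := by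
  refine ab_isIso _ fun U hU => ?_
  let ev : CohTop.Ab X ⥤ Type u :=
    (sheafToPresheaf _ _ ⋙ (CategoryTheory.evaluation _ _).obj (op U)) ⋙ forget AddCommGrpCat
  let hl := isLimitOfPreserves ev (limit.isLimit (redSys I F))
  have hπ : ∀ (k : ℕ) (x),
      (redToLev h𝔛 p hp I hI F k).hom.app (op U)
          ((limit.π (redSys I F) (op k)).hom.app (op U) ((toLimit h𝔛 p hp I hI F).hom.app (op U) x)) =
        (pushProj h𝔛 p hp F k).hom.app (op U) x := fun k x => by
    refine ConcreteCategory.congr_hom (congrArg (fun χ => χ.hom.app (op U))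
      (?_ : (toLimit h𝔛 p hp I hI F ≫ limit.π (redSys I F) (op k)) ≫
        redToLev h𝔛 p hp I hI F k = pushProj h𝔛 p hp F k)) x
    rw [toLimit_π, Category.assoc, IsIso.inv_hom_id, Category.comp_id]
  refine ⟨fun x y hxy => ext_of_π h𝔛.1 (PS).F (PS).toPush x y fun k => ?_, fun z => ?_⟩
  · exact (hπ k x).symm.trans ((congrArg _ (congrArg _ hxy)).trans (hπ k y))
  · let y : ∀ k, lev h𝔛.1 (PS).F k (ComplSec.pre p U) := fun k =>
      (redToLev h𝔛 p hp I hI F k).hom.app (op U) ((limit.π (redSys I F) (op k)).hom.app (op U) z)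
    have hy : ∀ k, tr h𝔛.1 (PS).F (PS).toPush k (ComplSec.pre p U) (y (k + 1)) = y k := fun k =>
      (ConcreteCategory.congr_hom (congrArg (fun χ => χ.hom.app (op U))
        (redToLev_tr h𝔛 p hp I hI F k)) ((limit.π (redSys I F) (op (k + 1))).hom.app (op U) z)).trans
        (congrArg ((redToLev h𝔛 p hp I hI F k).hom.app (op U))
          (ConcreteCategory.congr_hom (congrArg (fun χ => χ.hom.app (op U))
            (limit.w (redSys I F) (homOfLE (Nat.le_succ k)).op)) z))
    obtain ⟨x, hx⟩ := exists_of_compatible h𝔛.1 (PS).F (PS).toPush y hy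
    refine ⟨x, (Types.isLimitEquivSections hl).injective (Subtype.ext (funext fun j => ?_))⟩
    rw [Types.isLimitEquivSections_apply, Types.isLimitEquivSections_apply]
    refine ((ConcreteCategory.isIso_iff_bijective
      ((redToLev h𝔛 p hp I hI F j.unop).hom.app (op U))).1 inferInstance).1 ?_
    exact (hπ j.unop x).trans (hx j.unop)

/-! ### Cohomology of the limit of the reductions -/

omit [IsLocallyNoetherian X] in
lemma redSys_map_succ (k : ℕ) :
    (redSys I F).map (homOfLE (Nat.le_succ k)).op =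
      (SheafOfModules.toSheaf _).map (_root_.Formal.modPowTrans I (k + 1) F) := by
  change (SheafOfModules.toSheaf _).map
    ((_root_.Formal.completion I F).map (homOfLE (Nat.le_succ k)).op) = _
  refine congrArg (SheafOfModules.toSheaf _).map ?_
  simp only [_root_.Formal.completion, Functor.ofOpSequence_map_homOfLE_succ]
  all_goals rfl

/-- The comparison of the cohomology of the limit with the limit of cohomology. -/
noncomputable def limHom (n : ℕ) :
    CohTop.H (limit (redSys I F)) n →+ _root_.Formal.HHlim I F n :=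
  (AddMonoidHom.pi fun k => Sheaf.H.map (limit.π (redSys I F) (op k)) n).codRestrict _ fun η k => by
    change Sheaf.H.map ((SheafOfModules.toSheaf _).map (_root_.Formal.modPowTrans I (k + 1) F)) n
      (Sheaf.H.map (limit.π (redSys I F) (op (k + 1))) n η) =
      Sheaf.H.map (limit.π (redSys I F) (op k)) n η
    refine (Sheaf.H.map_comp_apply _ _ _).symm.trans (congrArg (fun φ => Sheaf.H.map φ n η) ?_)
    rw [← redSys_map_succ]
    exact limit.w (redSys I F) _

lemma limHom_apply (n : ℕ) (η : CohTop.H (limit (redSys I F)) n) (k : ℕ) :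
    (limHom I F n η).1 k = Sheaf.H.map (limit.π (redSys I F) (op k)) n η := rfl

lemma surjective_red (U : X.Opens) (hU : IsAffineOpen U) (k : ℕ) :
    Function.Surjective ((redSys I F).map (homOfLE (Nat.le_succ k)).op |>.hom.app (op U)).hom :=
  fun z => by
    obtain ⟨m, rfl⟩ := H78.Formal.Sections.modPowπ_surjective (M := F) I (k + 1) hU z
    exact ⟨(redπ I F (k + 1)).hom.app (op U) m, ConcreteCategory.congr_hom
      (congrArg (fun χ => χ.hom.app (op U)) (redπ_trans I F k)) m⟩

lemma h0_lim {T : TopCat.{u}} (S : ℕᵒᵖ ⥤ CohTop.Ab T) :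
    (∀ x y : CohTop.H (limit S) 0,
      (∀ k : ℕ, Sheaf.H.map (limit.π S (op k)) 0 x = Sheaf.H.map (limit.π S (op k)) 0 y) → x = y) ∧
    ∀ z : ∀ k : ℕ, CohTop.H (S.obj (op k)) 0,
      (∀ k, Sheaf.H.map (S.map (homOfLE (Nat.le_succ k)).op) 0 (z (k + 1)) = z k) →
        ∃ x, ∀ k : ℕ, Sheaf.H.map (limit.π S (op k)) 0 x = z k := by
  let hT := Preorder.isTerminalTop (Opens T)
  let ev : CohTop.Ab T ⥤ Type u :=
    (sheafToPresheaf _ _ ⋙ (CategoryTheory.evaluation _ _).obj (op (⊤ : Opens T))) ⋙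
      forget AddCommGrpCat
  let hl := isLimitOfPreserves ev (limit.isLimit S)
  refine ⟨fun x y hxy => ?_, fun z hz => ?_⟩
  · refine (Sheaf.H.equiv₀ (limit S) hT).injective ((Types.isLimitEquivSections hl).injective
      (Subtype.ext (funext fun j => ?_)))
    rw [Types.isLimitEquivSections_apply, Types.isLimitEquivSections_apply]
    have h1 := Sheaf.H.equiv₀_naturality (hT := hT) (f := limit.π S j) (x := x)
    have h2 := Sheaf.H.equiv₀_naturality (hT := hT) (f := limit.π S j) (x := y)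
    exact h1.trans ((congrArg (Sheaf.H.equiv₀ (S.obj j) hT) (hxy j.unop)).trans h2.symm)
  · let t : ∀ j : ℕᵒᵖ, ev.obj (S.obj j) := fun j => Sheaf.H.equiv₀ (S.obj j) hT (z j.unop)
    have ht : ∀ k : ℕ, (S ⋙ ev).map (homOfLE (Nat.le_succ k)).op (t (op (k + 1))) =
        t (op k) := fun k =>
      (Sheaf.H.equiv₀_naturality (hT := hT) (f := S.map (homOfLE (Nat.le_succ k)).op)
        (x := z (k + 1))).trans (congrArg (Sheaf.H.equiv₀ (S.obj (op k)) hT) (hz k))
    have ht' : ∀ {a b : ℕ} (hab : a ≤ b),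
        (S ⋙ ev).map (homOfLE hab).op (t (op b)) = t (op a) := by
      intro a b hab
      induction hab with
      | refl => exact ConcreteCategory.congr_hom ((S ⋙ ev).map_id (op a)) _
      | @step b h ih =>
        have e := ConcreteCategory.congr_hom ((S ⋙ ev).map_comp
          (homOfLE (Nat.le_succ b)).op (homOfLE h).op) (t (op (b + 1)))
        exact (e.trans ((congrArg _ (ht b)).trans ih) : _)
    obtain ⟨w, hw⟩ : ∃ w, ∀ k : ℕ, ev.map (limit.π S (op k)) w = t (op k) :=
      ⟨(Types.isLimitEquivSections hl).symm ⟨t, fun {a b} f => ht' (leOfHom f.unop)⟩,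
        fun k => Types.isLimitEquivSections_symm_apply hl _ (op k)⟩
    refine ⟨(Sheaf.H.equiv₀ _ hT).symm w, fun k => ?_⟩
    rw [Sheaf.H.equiv₀_symm_naturality]
    exact (congrArg _ (hw k)).trans ((Sheaf.H.equiv₀ _ hT).symm_apply_apply _)

lemma limHom_bijective_zero : Function.Bijective (limHom I F 0) := by
  obtain ⟨h1, h2⟩ := h0_lim (redSys I F)
  refine ⟨fun x y hxy => h1 x y fun k => ?_, fun z => ?_⟩
  · exact congrFun (congrArg Subtype.val hxy) k
  · obtain ⟨x, hx⟩ := h2 z.1 fun k => by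
      rw [redSys_map_succ]
      exact z.2 k
    exact ⟨x, Subtype.ext (funext hx)⟩

lemma limHom_bijective_succ (j : ℕ)
    (hML : ((redSys I F ⋙ Sheaf.functorH (Opens.grothendieckTopology X) j) ⋙
      forget AddCommGrpCat).IsMittagLeffler) :
    Function.Bijective (limHom I F (j + 1)) := by
  have h := Groth.Agent.S2371.result (X := X.toTopCat) (redSys I F) {U : X.Opens | IsAffineOpen U}
    X.isBasis_affineOpens (fun k => ?_)
    (fun U hU k i hi => ?_) (fun U hU k => surjective_red I F U hU k) (j + 1) j rfl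
  · refine ⟨fun x y hxy => h.2 hML x y fun k => ?_, fun z => ?_⟩
    · exact (limHom_apply I F _ x k).symm.trans ((congrArg (fun w => w.1 k) hxy).trans
        (limHom_apply I F _ y k))
    · obtain ⟨η, hη⟩ := h.1 z.1 fun k => by
        rw [redSys_map_succ]
        exact z.2 k
      exact ⟨η, Subtype.ext (funext fun k => (limHom_apply I F _ η k).trans (hη k))⟩
  · haveI : Epi (redπ I F (k + 1) ≫ (redSys I F).map (homOfLE (Nat.le_succ k)).op) := by
      rw [redπ_trans]; infer_instance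
    exact epi_of_epi (redπ I F (k + 1)) _
  · obtain ⟨i, rfl⟩ := Nat.exists_eq_succ_of_ne_zero hi.ne'
    haveI : (_root_.Formal.modPow I (k + 1) F).IsQuasicoherent :=
      H78.Formal.Sections.isQCoh_modPow I (k + 1)
    exact ZarCoh.Affine.HU_subsingleton (_root_.Formal.modPow I (k + 1) F) hU i

/-- An isomorphism of abelian sheaves gives an isomorphism on cohomology. -/
lemma nonempty_mapH {T : TopCat.{u}} {S S' : CohTop.Ab T} (e : S ≅ S') (n : ℕ) :
    Nonempty (CohTop.H S n ≃+ CohTop.H S' n) :=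
  ⟨AddEquiv.ofBijective (Sheaf.H.map e.hom n) (Function.bijective_iff_has_inverse.2
    ⟨Sheaf.H.map e.inv n,
      fun x => by rw [← Sheaf.H.map_comp_apply, e.hom_inv_id, Sheaf.H.map_id_apply],
      fun x => by rw [← Sheaf.H.map_comp_apply, e.inv_hom_id, Sheaf.H.map_id_apply]⟩)⟩

omit [F.IsQuasicoherent] in
include hI in
theorem nonempty_equiv (hF : Coh.IsCoh F) (n : ℕ)
    (hML : ∀ j, j + 1 = n → ((redSys I F ⋙ Sheaf.functorH (Opens.grothendieckTopology X) j) ⋙
      forget AddCommGrpCat).IsMittagLeffler) :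
    Nonempty (FSch.HF 𝔛 h𝔛.1 ((FSch.toSchemeMor 𝔛 h𝔛.1 p hp).pull.obj F) n ≃+
      _root_.Formal.HHlim I F n) := by
  haveI := hF.1
  have hc : (PS).IsCoh := fun k => Cyc.FP.Stalk.isCoh_pullback (p k) hF
  haveI := ComplPull.isIso_γ h𝔛 p hp F hF hc
  obtain ⟨e0⟩ := nonempty_mapH
    ((SheafOfModules.toSheaf _).mapIso (asIso (ComplPull.γ h𝔛 p hp F))) n
  obtain ⟨e1⟩ := Groth.Agent.S0459.result (p 0).base (p 0).isClosedEmbedding
    (ModSite.toAb ((PS).realMod h𝔛.1)) n
  obtain ⟨e2⟩ := nonempty_mapH (asIso (toLimit h𝔛 p hp I hI F)) n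
  have hb : Function.Bijective (limHom I F n) := by
    cases n with
    | zero => exact limHom_bijective_zero I F
    | succ j => exact limHom_bijective_succ I F j (hML j rfl)
  exact ⟨((e0.trans e1).trans e2).trans (AddEquiv.ofBijective (limHom I F n) hb)⟩

end Groth.Agent.Lib.FormalCompl.Cohom
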