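import Groth.Agent.H30.FSch.ComplExact
import Groth.Agent.H30.FSch.ComplPull

/-!
# Completion of modules without Noetherian hypotheses: sections and exactness (helper5)
-/

set_option autoImplicit false
set_option linter.style.haveILetI false

universe u

open CategoryTheory CategoryTheory.Limits AlgebraicGeometry TopologicalSpace Opposite
open Groth.Agent.H30 Groth.Agent.H30.RealLimSec
open Groth.Agent.Lib

namespace Groth.Agent.Lib.FormalCompl.Sec

variable {X : Scheme.{u}} {𝔛 : FSch.Sys.{u}} (h : 𝔛.IsFormal)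
  (p : ∀ n, 𝔛.X n ⟶ X) (hp : ∀ n, 𝔛.ι n ≫ p (n + 1) = p n)

/-- The functor on a module. -/
noncomputable abbrev cmp (F : X.Modules) : FSch.ModF 𝔛 h :=
  (ComplSec.pullSys p hp F).realMod h

/-- The functor on a morphism. -/
noncomputable abbrev cmpMap {F G : X.Modules} (φ : F ⟶ G) : cmp h p hp F ⟶ cmp h p hp G :=
  FSch.ModSys.realModMap h (ComplSec.pullSysMap p hp φ)

/-- Projection to level `k` over the trace of `U`. -/
noncomputable abbrev pr (F : X.Modules) (k : ℕ) (U : X.Opens) :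
    sec h (cmp h p hp F) (ComplSec.pre p U) →ₗ[Levels.A 𝔛 h (ComplSec.pre p U)]
      lev h (ComplSec.pullSys p hp F).F k (ComplSec.pre p U) :=
  π h (ComplSec.pullSys p hp F).F (ComplSec.pullSys p hp F).toPush k (ComplSec.pre p U)

theorem tr_σ (F : X.Modules) (k : ℕ) (U : X.Opens) (m : Γ(F, U)) :
    tr h (ComplSec.pullSys p hp F).F (ComplSec.pullSys p hp F).toPush k (ComplSec.pre p U)
        (ComplSec.σ h p hp F (k + 1) U m) =
      ComplSec.σ h p hp F k U m := by
  refine Eq.trans ?_ (ComplSec.res_trans_eta (𝔛.ι k) (p (k + 1)) (p k) (hp k) F U m _ _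
    (ComplSec.lvU_pre h p hp (k + 1) U).le (𝔛.lvU_le h k (ComplSec.pre p U))
    (ComplSec.lvU_pre h p hp k U).le)
  rw [tr_apply, FSch.ModSys.toPush, Adjunction.homEquiv_unit]
  rfl

theorem pr_map {F G : X.Modules} (φ : F ⟶ G) (k : ℕ) (U : X.Opens) (m : Γ(F, U))
    (x : sec h (cmp h p hp F) (ComplSec.pre p U))
    (hx : pr h p hp F k U x = ComplSec.σ h p hp F k U m) :
    pr h p hp G k U (secMap h (cmpMap h p hp φ) (ComplSec.pre p U) x) =
      ComplSec.σ h p hp G k U (φ.app U m) := by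
  refine (ComplSec.π_map h p hp φ k _ x).trans ?_
  refine Eq.trans ?_ (ComplSec.σ_map h p hp F φ k U m).symm
  exact congrArg _ hx

/-- The completion of a section. -/
noncomputable def ehat (F : X.Modules) (U : X.Opens) (m : Γ(F, U)) :
    sec h (cmp h p hp F) (ComplSec.pre p U) :=
  (RealLimSec.exists_of_compatible h (ComplSec.pullSys p hp F).F (ComplSec.pullSys p hp F).toPush
    (fun k => ComplSec.σ h p hp F k U m) fun k => tr_σ h p hp F k U m).choose

theorem pr_ehat (F : X.Modules) (k : ℕ) (U : X.Opens) (m : Γ(F, U)) :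
    pr h p hp F k U (ehat h p hp F U m) = ComplSec.σ h p hp F k U m :=
  (RealLimSec.exists_of_compatible h (ComplSec.pullSys p hp F).F (ComplSec.pullSys p hp F).toPush
    (fun k => ComplSec.σ h p hp F k U m) fun k => tr_σ h p hp F k U m).choose_spec k

theorem ehat_map {F G : X.Modules} (φ : F ⟶ G) (U : X.Opens) (m : Γ(F, U)) :
    secMap h (cmpMap h p hp φ) (ComplSec.pre p U) (ehat h p hp F U m) =
      ehat h p hp G U (φ.app U m) :=
  RealLimSec.ext_of_π h _ _ _ _ fun k =>
    (pr_map h p hp φ k U m _ (pr_ehat h p hp F k U m)).trans (pr_ehat h p hp G k U _).symm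

theorem ehat_add (F : X.Modules) (U : X.Opens) (m m' : Γ(F, U)) :
    ehat h p hp F U (m + m') = ehat h p hp F U m + ehat h p hp F U m' := by
  refine RealLimSec.ext_of_π h _ _ _ _ fun k => ?_
  refine (pr_ehat h p hp F k U _).trans (Eq.trans ?_ (map_add _ _ _).symm)
  exact (map_add _ _ _).trans (congrArg₂ (· + ·) (pr_ehat h p hp F k U m).symm
    (pr_ehat h p hp F k U m').symm)

theorem ehat_res (F : X.Modules) {U U' : X.Opens} (e : U' ≤ U) (m : Γ(F, U)) :
    CohPres.resF h _ ((p 0).preimage_mono e) (ehat h p hp F U m) =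
      ehat h p hp F U' (F.presheaf.map (homOfLE e).op m) := by
  refine RealLimSec.ext_of_π h _ _ _ _ fun k => ?_
  refine (CohPres.π_res h _ _ k _ _).trans ?_
  refine (congrArg _ (pr_ehat h p hp F k U m)).trans (Eq.trans ?_ (pr_ehat h p hp F k U' _).symm)
  refine Eq.trans ?_ (congrArg (((ComplSec.pullSys p hp F).F k).presheaf.map
      (homOfLE (ComplSec.lvU_pre h p hp k U').le).op)
    ((((Scheme.Modules.pullbackPushforwardAdjunction (p k)).unit.app F).mapPresheaf.naturality_apply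
      (homOfLE e).op m))).symm
  refine (CohDelta.Units.map_map _ _ _
    (homOfLE ((ComplSec.lvU_pre h p hp k U').le.trans ((p k).preimage_mono e))).op _).trans ?_
  exact (CohDelta.Units.map_map _ _ _ _ _).symm

theorem map_pow_smul_top {B : Type u} [CommRing B] {M N : Type u} [AddCommGroup M] [Module B M]
    [AddCommGroup N] [Module B N] (g : M →ₗ[B] N) (hg : Function.Surjective g) (J : Ideal B) {y : N}
    (hy : y ∈ J • (⊤ : Submodule B N)) : ∃ x ∈ J • (⊤ : Submodule B M), g x = y := by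
  have : y ∈ (J • (⊤ : Submodule B M)).map g := by
    rwa [Submodule.map_smul'', Submodule.map_top, LinearMap.range_eq_top.2 hg]
  exact this

section Affine

variable [∀ k, IsClosedImmersion (p k)]
  (hker : ∀ k (U : X.affineOpens), (p k).ker.ideal U = (p 0).ker.ideal U ^ (k + 1))
  {A B C : X.Modules} [A.IsQuasicoherent] [B.IsQuasicoherent] [C.IsQuasicoherent]
  (f : A ⟶ B) (g : B ⟶ C) (U : X.affineOpens)

/-- A morphism has the Artin–Rees property on an affine open. -/
def HasShift : Prop :=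
  ∃ s, ∀ k, s ≤ k → ∀ a : Γ(A, U.1),
    f.app U.1 a ∈ (p 0).ker.ideal U ^ k • (⊤ : Submodule Γ(X, U.1) Γ(B, U.1)) →
      a ∈ (p 0).ker.ideal U ^ (k - s) • (⊤ : Submodule Γ(X, U.1) Γ(A, U.1))

omit [A.IsQuasicoherent] [B.IsQuasicoherent] [C.IsQuasicoherent] [∀ k, IsClosedImmersion (p k)] in
theorem desc (F : X.Modules) (j t : ℕ) (x : sec h (cmp h p hp F) (ComplSec.pre p U.1)) (a : Γ(F, U.1))
    (ha : pr h p hp F (j + t) U.1 x = ComplSec.σ h p hp F (j + t) U.1 a) :
    pr h p hp F j U.1 x = ComplSec.σ h p hp F j U.1 a := by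
  induction t with
  | zero => exact ha
  | succ t ih =>
    refine ih ?_
    refine (LinearMap.congr_fun (RealLimSec.tr_π h _ _ (j + t) _) x).symm.trans ?_
    exact (congrArg _ ha).trans (tr_σ h p hp F (j + t) U.1 a)

omit [A.IsQuasicoherent] [B.IsQuasicoherent] [C.IsQuasicoherent] [∀ k, IsClosedImmersion (p k)] in
theorem desc' (F : X.Modules) {j n : ℕ} (hjn : j ≤ n) (x : sec h (cmp h p hp F) (ComplSec.pre p U.1))
    (a : Γ(F, U.1)) (ha : pr h p hp F n U.1 x = ComplSec.σ h p hp F n U.1 a) :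
    pr h p hp F j U.1 x = ComplSec.σ h p hp F j U.1 a := by
  obtain ⟨t, rfl⟩ := Nat.exists_eq_add_of_le hjn
  exact desc h p hp U F j t x a ha

omit [C.IsQuasicoherent] in
include hker in
theorem injective (hs : HasShift p f U) :
    Function.Injective (secMap h (cmpMap h p hp f) (ComplSec.pre p U.1)) := by
  obtain ⟨s, hs⟩ := hs
  rw [injective_iff_map_eq_zero]
  intro x hx
  refine RealLimSec.ext_of_π h _ _ x 0 fun j => ?_
  rw [map_zero]
  obtain ⟨a, ha⟩ := ComplSec.σ_surjective h p hp A (j + s) U.2 (pr h p hp A (j + s) U.1 x)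
  have hfa : ComplSec.σ h p hp B (j + s) U.1 (f.app U.1 a) = 0 :=
    ((pr_map h p hp f (j + s) U.1 a x ha.symm).symm.trans (congrArg _ hx)).trans (map_zero _)
  rw [ComplSec.σ_eq_zero_iff h p hp B (j + s) U.2, hker] at hfa
  have ha' := hs _ (by omega) a hfa
  rw [show j + s + 1 - s = j + 1 by omega, ← hker] at ha'
  exact (desc h p hp U A j s x a ha.symm).trans ((ComplSec.σ_eq_zero_iff h p hp A j U.2 a).2 ha')

include hker in
theorem exact (hs : HasShift p f U) (hg : Function.Surjective (g.app U.1))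
    (hex : ∀ b : Γ(B, U.1), g.app U.1 b = 0 → ∃ a, f.app U.1 a = b)
    (y : sec h (cmp h p hp B) (ComplSec.pre p U.1))
    (hy : secMap h (cmpMap h p hp g) (ComplSec.pre p U.1) y = 0) :
    ∃ x, secMap h (cmpMap h p hp f) (ComplSec.pre p U.1) x = y := by
  obtain ⟨s, hs⟩ := hs
  have hA : ∀ k, ∃ a : Γ(A, U.1), pr h p hp B k U.1 y = ComplSec.σ h p hp B k U.1 (f.app U.1 a) := by
    intro k
    obtain ⟨m, hm⟩ := ComplSec.σ_surjective h p hp B k U.2 (pr h p hp B k U.1 y)
    have hgm : ComplSec.σ h p hp C k U.1 (g.app U.1 m) = 0 :=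
      ((pr_map h p hp g k U.1 m y hm.symm).symm.trans (congrArg _ hy)).trans (map_zero _)
    rw [ComplSec.σ_eq_zero_iff h p hp C k U.2] at hgm
    obtain ⟨m', hm', hmm⟩ := map_pow_smul_top (CohBasics.Affine.secₗ g U.1) hg _ hgm
    obtain ⟨a, ha⟩ := hex (m - m') (by
      rw [map_sub]
      exact sub_eq_zero.2 hmm.symm)
    refine ⟨a, ?_⟩
    rw [ha, map_sub, (ComplSec.σ_eq_zero_iff h p hp B k U.2 m').2 hm', sub_zero, hm]
  choose a ha using hA
  have hcomp : ∀ j, tr h (ComplSec.pullSys p hp A).F (ComplSec.pullSys p hp A).toPush j _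
      (ComplSec.σ h p hp A (j + 1) U.1 (a (j + 1 + s))) =
      ComplSec.σ h p hp A j U.1 (a (j + s)) := by
    intro j
    rw [tr_σ h p hp A, ← sub_eq_zero, ← map_sub, ComplSec.σ_eq_zero_iff h p hp A j U.2, hker]
    have h0 : ComplSec.σ h p hp B (j + s) U.1 (f.app U.1 (a (j + 1 + s) - a (j + s))) = 0 := by
      rw [map_sub, map_sub, ← ha, sub_eq_zero]
      exact (desc' h p hp U B (by omega) y _ (ha (j + 1 + s))).symm
    rw [ComplSec.σ_eq_zero_iff h p hp B (j + s) U.2, hker] at h0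
    have := hs _ (by omega) _ h0
    rwa [show j + s + 1 - s = j + 1 by omega] at this
  obtain ⟨x, hx⟩ := RealLimSec.exists_of_compatible h (ComplSec.pullSys p hp A).F
    (ComplSec.pullSys p hp A).toPush (fun j => ComplSec.σ h p hp A j U.1 (a (j + s))) hcomp
  refine ⟨x, RealLimSec.ext_of_π h _ _ _ _ fun j => ?_⟩
  refine (pr_map h p hp f j U.1 _ x (hx j)).trans ?_
  exact (desc h p hp U B j s y _ (ha (j + s))).symm

omit [A.IsQuasicoherent] in
/-- Surjectivity by successive approximation. -/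
theorem surjective (hg : Function.Surjective (g.app U.1)) :
    Function.Surjective (secMap h (cmpMap h p hp g) (ComplSec.pre p U.1)) := by
  intro z
  let Ok : ∀ _ : ℕ, Γ(B, U.1) → Prop := fun k m =>
    ComplSec.σ h p hp C k U.1 (g.app U.1 m) = pr h p hp C k U.1 z
  have h0 : ∃ m, Ok 0 m := by
    obtain ⟨w, hw⟩ := ComplSec.σ_surjective h p hp C 0 U.2 (pr h p hp C 0 U.1 z)
    obtain ⟨m, rfl⟩ := hg w
    exact ⟨m, hw⟩
  have step : ∀ k m, Ok k m → ∃ m', Ok (k + 1) m' ∧
      ComplSec.σ h p hp B k U.1 m' = ComplSec.σ h p hp B k U.1 m := by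
    intro k m hm
    obtain ⟨w, hw⟩ := ComplSec.σ_surjective h p hp C (k + 1) U.2 (pr h p hp C (k + 1) U.1 z)
    have hz : ComplSec.σ h p hp C k U.1 (w - g.app U.1 m) = 0 := by
      rw [map_sub, sub_eq_zero, hm]
      exact (desc' h p hp U C (Nat.le_succ k) z w hw.symm).symm
    rw [ComplSec.σ_eq_zero_iff h p hp C k U.2] at hz
    obtain ⟨d, hd, hgd⟩ := map_pow_smul_top (CohBasics.Affine.secₗ g U.1) hg _ hz
    refine ⟨m + d, ?_, ?_⟩
    · show ComplSec.σ h p hp C (k + 1) U.1 (g.app U.1 (m + d)) = _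
      rw [map_add, show g.app U.1 d = w - g.app U.1 m from hgd, add_sub_cancel, hw]
    · rw [map_add, (ComplSec.σ_eq_zero_iff h p hp B k U.2 d).2 hd, add_zero]
  choose m' hm' hcomp using step
  let seq : ∀ k, { m // Ok k m } := fun k => Nat.rec ⟨h0.choose, h0.choose_spec⟩
    (fun k m => ⟨m' k m.1 m.2, hm' k m.1 m.2⟩) k
  obtain ⟨x, hx⟩ := RealLimSec.exists_of_compatible h (ComplSec.pullSys p hp B).F
    (ComplSec.pullSys p hp B).toPush (fun j => ComplSec.σ h p hp B j U.1 (seq j).1) fun j =>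
      (tr_σ h p hp B j U.1 _).trans (hcomp j (seq j).1 (seq j).2)
  exact ⟨x, RealLimSec.ext_of_π h _ _ _ _ fun j => (pr_map h p hp g j U.1 _ x (hx j)).trans (seq j).2⟩

end Affine

/-- The completion of a composite. -/
theorem comp_eq_zero {A B C : X.Modules} (f : A ⟶ B) (g : B ⟶ C) (w : f ≫ g = 0) :
    cmpMap h p hp f ≫ cmpMap h p hp g = 0 := by
  refine limit.hom_ext fun k => ?_
  refine (Category.assoc _ _ _).trans ?_
  have hg : cmpMap h p hp g ≫
      limit.π (FSch.levelSysOf 𝔛 h (ComplSec.pullSys p hp C).F (ComplSec.pullSys p hp C).toPush) k = _ :=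
    FSch.realLimMap_realProj 𝔛 h (ComplSec.pullSysMap p hp g).app
      (FSch.ModSys.Hom.toPush_comm (ComplSec.pullSysMap p hp g)) k.unop
  refine (congrArg (cmpMap h p hp f ≫ ·) hg).trans ?_
  have hf := FSch.realLimMap_realProj 𝔛 h (ComplSec.pullSysMap p hp f).app
      (FSch.ModSys.Hom.toPush_comm (ComplSec.pullSysMap p hp f)) k.unop
  refine (Category.assoc _ _ _).symm.trans ?_
  refine (congrArg (· ≫ _) hf).trans ?_
  refine (Category.assoc _ _ _).trans ?_
  refine (congrArg (_ ≫ ·) (((FSch.levelMor 𝔛 h k.unop).push.map_comp _ _).symm.trans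
    ((congrArg (FSch.levelMor 𝔛 h k.unop).push.map
      (?_ : (ComplSec.pullSysMap p hp f).app k.unop ≫ (ComplSec.pullSysMap p hp g).app k.unop = 0)).trans
      ((@Functor.map_zero _ _ _ _ _ _ (FSch.levelMor 𝔛 h k.unop).push ⟨fun _ _ => rfl⟩ _ _))))).trans ?_
  · exact ((Scheme.Modules.pullback (p k.unop)).map_comp _ _).symm.trans
      ((congrArg _ w).trans (Functor.map_zero _ _ _))
  · rw [comp_zero]
    exact zero_comp.symm

/-- Completion is exact as soon as it is on enough affine opens. -/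
theorem shortExact [∀ k, IsClosedImmersion (p k)]
    (hker : ∀ k (U : X.affineOpens), (p k).ker.ideal U = (p 0).ker.ideal U ^ (k + 1))
    {A B C : X.Modules} [A.IsQuasicoherent] [B.IsQuasicoherent] [C.IsQuasicoherent]
    (f : A ⟶ B) (g : B ⟶ C) (w : f ≫ g = 0) {ι : Type u} (U : ι → X.affineOpens)
    (hB : Opens.IsBasis (Set.range fun i => ComplSec.pre p (U i).1))
    (hs : ∀ i, HasShift p f (U i)) (hg : ∀ i, Function.Surjective (g.app (U i).1))
    (hex : ∀ i, ∀ b : Γ(B, (U i).1), g.app (U i).1 b = 0 → ∃ a, f.app (U i).1 a = b) :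
    (ShortComplex.mk _ _ (comp_eq_zero h p hp f g w)).ShortExact := by
  haveI hm : Mono (cmpMap h p hp f) :=
    ComplExact.mono_of_injective_basis _ _ hB fun i => injective h p hp hker f (U i) (hs i)
  haveI he : Epi (cmpMap h p hp g) :=
    ComplExact.epi_of_surjective_basis _ _ hB fun i =>
      surjective h p hp g (U i) (hg i)
  refine ShortComplex.ShortExact.mk' ?_ hm he
  rw [ShortComplex.exact_iff_epi_kernel_lift]
  refine ComplExact.epi_of_surjective_basis _ _ hB fun i t => ?_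
  have hy : secMap h (cmpMap h p hp g) _ (secMap h (kernel.ι (cmpMap h p hp g)) _ t) = 0 :=
    congrArg (fun ψ => secMap h ψ _ t) (kernel.condition (cmpMap h p hp g))
  obtain ⟨x, hx⟩ := exact h p hp hker f g (U i) (hs i) (hg i) (hex i) _ hy
  refine ⟨x, CohCons.secMap_injective (kernel.ι (cmpMap h p hp g)) _ ?_⟩
  refine Eq.trans ?_ hx
  exact congrArg (fun ψ => secMap h ψ (ComplSec.pre p (U i).1) x)
    (kernel.lift_ι (cmpMap h p hp g) (cmpMap h p hp f) (comp_eq_zero h p hp f g w))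

/-- Exactness, for systems equal to the systems of inverse images. -/
theorem shortExact_of_eq [∀ k, IsClosedImmersion (p k)]
    (hker : ∀ k (U : X.affineOpens), (p k).ker.ideal U = (p 0).ker.ideal U ^ (k + 1))
    {A B C : X.Modules} [A.IsQuasicoherent] [B.IsQuasicoherent] [C.IsQuasicoherent]
    (f : A ⟶ B) (g : B ⟶ C) (w : f ≫ g = 0) {ι : Type u} (U : ι → X.affineOpens)
    (hB : Opens.IsBasis (Set.range fun i => ComplSec.pre p (U i).1))
    (hs : ∀ i, HasShift p f (U i)) (hg : ∀ i, Function.Surjective (g.app (U i).1))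
    (hex : ∀ i, ∀ b : Γ(B, (U i).1), g.app (U i).1 b = 0 → ∃ a, f.app (U i).1 a = b)
    {A' B' C' : FSch.ModSys 𝔛} (eA : A' = ComplSec.pullSys p hp A)
    (eB : B' = ComplSec.pullSys p hp B) (eC : C' = ComplSec.pullSys p hp C)
    (f' : A' ⟶ B') (g' : B' ⟶ C') (hf : HEq f' (ComplSec.pullSysMap p hp f))
    (hg' : HEq g' (ComplSec.pullSysMap p hp g)) :
    ∃ w' : FSch.ModSys.realModMap h f' ≫ FSch.ModSys.realModMap h g' = 0,
      (ShortComplex.mk _ _ w').ShortExact := by
  subst eA eB eC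
  cases eq_of_heq hf
  cases eq_of_heq hg'
  exact ⟨comp_eq_zero h p hp f g w, shortExact h p hp hker f g w U hB hs hg hex⟩

end Groth.Agent.Lib.FormalCompl.Sec
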