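import Groth.Agent.Lib.FormalCompl.TildeSec

/-!
# Homomorphisms between completions of module sheaves on an affine scheme (helper5)
-/

set_option autoImplicit false
set_option linter.style.haveILetI false

universe u

open CategoryTheory CategoryTheory.Limits AlgebraicGeometry TopologicalSpace Opposite
open Groth.Agent.H30 Groth.Agent.H30.RealLimSec
open Groth.Agent.Lib Groth.Agent.Lib.FormalCompl.Sec

namespace Groth.Agent.Lib.FormalCompl.TildeHom

section General

variable {X : Scheme.{u}} {𝔛 : FSch.Sys.{u}} (h : 𝔛.IsFormal)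
  (p : ∀ n, 𝔛.X n ⟶ X) (hp : ∀ n, 𝔛.ι n ≫ p (n + 1) = p n)

/-- The structure map on sections. -/
noncomputable def shA (U : X.Opens) : Γ(X, U) →+* Levels.A 𝔛 h (ComplSec.pre p U) :=
  ((FSch.toSchemeMor 𝔛 h p hp).sharp.hom.app (op U)).hom

theorem proj_shA (k : ℕ) (U : X.Opens) (r : Γ(X, U)) :
    Levels.proj 𝔛 h k (ComplSec.pre p U) (shA h p hp U r) =
      (p k).appLE U _ (ComplSec.lvU_pre h p hp k U).le r :=
  congrArg (fun φ => φ.hom.app (op U) r) (FSch.schSharp_proj 𝔛 h p hp k)

theorem shA_smul_σ (F : X.Modules) (k : ℕ) (U : X.Opens) (r : Γ(X, U)) (m : Γ(F, U)) :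
    shA h p hp U r • ComplSec.σ h p hp F k U m = ComplSec.σ h p hp F k U (r • m) := by
  rw [lev_smul, proj_shA]
  refine Eq.symm ?_
  exact (congrArg _ (Scheme.Modules.Hom.app_smul
    ((Scheme.Modules.pullbackPushforwardAdjunction (p k)).unit.app F) r m)).trans
      (Scheme.Modules.map_smul _ _ _ _)

theorem ehat_smul (F : X.Modules) (U : X.Opens) (r : Γ(X, U)) (m : Γ(F, U)) :
    ehat h p hp F U (r • m) = shA h p hp U r • ehat h p hp F U m := by
  refine RealLimSec.ext_of_π h _ _ _ _ fun k => ?_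
  refine (pr_ehat h p hp F k U _).trans (Eq.trans ?_ (map_smul _ _ _).symm)
  exact (shA_smul_σ h p hp F k U r m).symm.trans (congrArg _ (pr_ehat h p hp F k U m).symm)

theorem exists_sum_of_mem_span_smul {B : Type u} [CommRing B] {M : Type u} [AddCommGroup M] [Module B M]
    {n : ℕ} (g : Fin n → B) (N : Submodule B M) {x : M} (hx : x ∈ Ideal.span (Set.range g) • N) :
    ∃ c : Fin n → M, (∀ i, c i ∈ N) ∧ x = ∑ i, g i • c i := by
  refine Submodule.smul_induction_on hx (fun a ha y hy => ?_) ?_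
  · obtain ⟨b, rfl⟩ := (Submodule.mem_span_range_iff_exists_fun B).1 ha
    refine ⟨fun i => b i • y, fun i => N.smul_mem _ hy, ?_⟩
    rw [Finset.sum_smul]
    exact Finset.sum_congr rfl fun i _ => by rw [smul_eq_mul, mul_comm, mul_smul]
  · rintro y z ⟨c, hc, rfl⟩ ⟨d, hd, rfl⟩
    exact ⟨c + d, fun i => add_mem (hc i) (hd i), by simp [smul_add, Finset.sum_add_distrib]⟩

variable [∀ k, IsClosedImmersion (p k)]
  (hker : ∀ k (U : X.affineOpens), (p k).ker.ideal U = (p 0).ker.ideal U ^ (k + 1))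
  {F : X.Modules} [F.IsQuasicoherent] (U : X.affineOpens)

include hker in
/-- An element vanishing in level `k` is divisible by the `k`-th ideal. -/
theorem exists_sum_of_pr_eq_zero (k : ℕ) (hfg : ((p 0).ker.ideal U).FG)
    (y : sec h (cmp h p hp F) (ComplSec.pre p U.1)) (hy : pr h p hp F k U.1 y = 0) :
    ∃ (n : ℕ) (g : Fin n → Γ(X, U.1)) (e : Fin n → sec h (cmp h p hp F) (ComplSec.pre p U.1)),
      (∀ i, g i ∈ (p k).ker.ideal U) ∧ y = ∑ i, shA h p hp U.1 (g i) • e i := by
  obtain ⟨n, g, hg⟩ := Submodule.fg_iff_exists_fin_generating_family.1 (hfg.pow (n := k + 1))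
  have hgI : Ideal.span (Set.range g) = (p 0).ker.ideal U ^ (k + 1) := hg
  have hlift : ∀ t, ∃ a, pr h p hp F (k + t) U.1 y = ComplSec.σ h p hp F (k + t) U.1 a := fun t =>
    (ComplSec.σ_surjective h p hp F (k + t) U.2 _).imp fun _ e => e.symm
  choose a₀ ha₀ using hlift
  let b : ℕ → Γ(F, U.1) := fun t => if t = 0 then 0 else a₀ t
  have hb : ∀ t, pr h p hp F (k + t) U.1 y = ComplSec.σ h p hp F (k + t) U.1 (b t) := by
    intro t
    by_cases ht : t = 0
    · subst ht
      simp only [b, ↓reduceIte, map_zero]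
      exact hy
    · simp only [b, if_neg ht]
      exact ha₀ t
  have hd : ∀ t, b (t + 1) - b t ∈ Ideal.span (Set.range g) •
      ((p 0).ker.ideal U ^ t • (⊤ : Submodule Γ(X, U.1) Γ(F, U.1))) := by
    intro t
    have h0 : ComplSec.σ h p hp F (k + t) U.1 (b (t + 1) - b t) = 0 := by
      rw [map_sub, ← hb t, sub_eq_zero]
      exact (desc' h p hp U F (by omega) y _ (hb (t + 1))).symm
    rw [ComplSec.σ_eq_zero_iff h p hp F (k + t) U.2, hker] at h0
    rwa [hgI, ← Submodule.mul_smul, ← pow_add, show k + 1 + t = k + t + 1 by omega]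
  choose c hc hcd using fun t => exists_sum_of_mem_span_smul g _ (hd t)
  let S : Fin n → ℕ → Γ(F, U.1) := fun i j => ∑ t ∈ Finset.range (j + 1), c t i
  have hS : ∀ i, ∀ j, tr h (ComplSec.pullSys p hp F).F (ComplSec.pullSys p hp F).toPush j _
      (ComplSec.σ h p hp F (j + 1) U.1 (S i (j + 1))) = ComplSec.σ h p hp F j U.1 (S i j) := by
    intro i j
    rw [tr_σ h p hp F, ← sub_eq_zero, ← map_sub, ComplSec.σ_eq_zero_iff h p hp F j U.2, hker]
    show (∑ t ∈ Finset.range (j + 1 + 1), c t i) - ∑ t ∈ Finset.range (j + 1), c t i ∈ _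
    rw [Finset.sum_range_succ, add_sub_cancel_left]
    exact hc (j + 1) i
  choose e he using fun i => RealLimSec.exists_of_compatible h (ComplSec.pullSys p hp F).F
    (ComplSec.pullSys p hp F).toPush (fun j => ComplSec.σ h p hp F j U.1 (S i j)) (hS i)
  refine ⟨n, g, e, fun i => ?_, RealLimSec.ext_of_π h _ _ _ _ fun j => ?_⟩
  · rw [hker, ← hgI]
    exact Ideal.subset_span ⟨i, rfl⟩
  have hsum : ∀ j, (∑ i, g i • S i j) = b (j + 1) := by
    intro j
    induction j with
    | zero =>
      simp only [S, zero_add, Finset.range_one, Finset.sum_singleton]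
      rw [← hcd 0]
      simp [b]
    | succ j ih =>
      have : ∀ i, S i (j + 1) = S i j + c (j + 1) i := fun i => Finset.sum_range_succ _ _
      simp only [this, smul_add, Finset.sum_add_distrib, ih, ← hcd (j + 1)]
      abel
  refine Eq.trans ?_ (map_sum _ _ _).symm
  refine Eq.trans ?_ (Finset.sum_congr rfl fun i _ => ((map_smul _ _ _).trans
    ((congrArg (shA h p hp U.1 (g i) • ·) (he i j)).trans (shA_smul_σ h p hp F j U.1 (g i) (S i j)))).symm)
  rw [← map_sum, hsum]
  exact desc' h p hp U F (by omega) y _ (hb (j + 1))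

/-- Elements of the `k`-th ideal act by zero on level `k`. -/
theorem pr_smul_eq_zero {G : X.Modules} [G.IsQuasicoherent] (k : ℕ) {r : Γ(X, U.1)}
    (hr : r ∈ (p k).ker.ideal U) (z : sec h (cmp h p hp G) (ComplSec.pre p U.1)) :
    pr h p hp G k U.1 (shA h p hp U.1 r • z) = 0 := by
  obtain ⟨w, hw⟩ := ComplSec.σ_surjective h p hp G k U.2 (pr h p hp G k U.1 z)
  refine (map_smul _ _ _).trans ?_
  rw [← hw, shA_smul_σ, ComplSec.σ_eq_zero_iff h p hp G k U.2]
  exact Submodule.smul_mem_smul hr trivial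

include hker in
theorem pr_secMap_eq_zero {G : X.Modules} [G.IsQuasicoherent] (k : ℕ)
    (hfg : ((p 0).ker.ideal U).FG) (Φ : cmp h p hp F ⟶ cmp h p hp G)
    (y : sec h (cmp h p hp F) (ComplSec.pre p U.1)) (hy : pr h p hp F k U.1 y = 0) :
    pr h p hp G k U.1 (secMap h Φ _ y) = 0 := by
  obtain ⟨n, g, e, hg, rfl⟩ := exists_sum_of_pr_eq_zero h p hp hker U k hfg y hy
  rw [map_sum, map_sum]
  refine Finset.sum_eq_zero fun i _ => ?_
  rw [map_smul]
  exact pr_smul_eq_zero h p hp U k (hg i) _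

end General

variable {A : CommRingCat.{u}} {J : Ideal A}
  (h : (FSch.completionAlong (Spec A) (FSch.idealSpec A J)).IsFormal)

local notation "cm" => cmp h (TildeSec.pp J) (FSch.completionToX_comm (Spec A) (FSch.idealSpec A J))
local notation "cmM" => cmpMap h (TildeSec.pp J) (FSch.completionToX_comm (Spec A) (FSch.idealSpec A J))
local notation "eh" => ehat h (TildeSec.pp J) (FSch.completionToX_comm (Spec A) (FSch.idealSpec A J))
local notation "sh" => shA h (TildeSec.pp J) (FSch.completionToX_comm (Spec A) (FSch.idealSpec A J))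
/-- The whole space, as the trace of `D(1)`. -/
noncomputable abbrev top₁ (J : Ideal A) : ((FSch.completionAlong (Spec A) (FSch.idealSpec A J)).X 0).Opens :=
  ComplSec.pre (TildeSec.pp J) (TildeSec.D (1 : A)).1

/-- The completion of an element of the module. -/
noncomputable def ghat (M : ModuleCat.{u} A) (m : M) : sec h (cm (tilde M)) (top₁ J) :=
  eh (tilde M) (TildeSec.D (1 : A)).1 (TildeSec.tloc M 1 m)

theorem ghat_add (M : ModuleCat.{u} A) (m m' : M) : ghat h M (m + m') = ghat h M m + ghat h M m' := by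
  rw [ghat, map_add]
  exact ehat_add _ _ _ _ _ _ _

theorem ghat_zero (M : ModuleCat.{u} A) : ghat h M 0 = 0 := by
  simpa using ghat_add h M 0 0

theorem ghat_smul (M : ModuleCat.{u} A) (a : A) (m : M) :
    ghat h M (a • m) = sh (TildeSec.D (1 : A)).1 (algebraMap A Γ(Spec A, (TildeSec.D (1 : A)).1) a) •
      ghat h M m := by
  rw [ghat, map_smul, ← algebraMap_smul Γ(Spec A, (TildeSec.D (1 : A)).1) a (TildeSec.tloc M 1 m)]
  exact ehat_smul _ _ _ _ _ _ _

theorem ghat_map {M N : ModuleCat.{u} A} (φ : M ⟶ N) (m : M) :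
    secMap h (cmM (tilde.map φ)) (top₁ J) (ghat h M m) = ghat h N (φ m) :=
  (ehat_map _ _ _ _ _ _).trans (congrArg (eh (tilde N) _) (TildeSec.map_tloc M φ 1 m))

theorem σ_tloc_one_eq_zero_iff (M : ModuleCat.{u} A) (k : ℕ) (m : M) :
    ComplSec.σ h (TildeSec.pp J) (FSch.completionToX_comm _ _) (tilde M) k (TildeSec.D (1 : A)).1
        (TildeSec.tloc M 1 m) = 0 ↔ m ∈ J ^ (k + 1) • (⊤ : Submodule A M) := by
  rw [ComplSec.σ_eq_zero_iff h _ _ (tilde M) k (TildeSec.D (1 : A)).2, TildeSec.mem_ker_ideal_smul_iff]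
  refine ⟨fun hm => ?_, fun hm => TildeSec.tloc_mem M _ hm⟩
  obtain ⟨i, m', hm', he⟩ := TildeSec.exists_mem_of_mem M _ hm
  rw [one_pow, one_smul, TildeSec.tloc_eq_iff] at he
  obtain ⟨j, hj⟩ := he
  rw [one_pow, one_smul, one_smul] at hj
  exact hj ▸ hm'

theorem ghat_injective (M : ModuleCat.{u} A) [IsHausdorff J M] : Function.Injective (ghat h M) := by
  intro m m' e
  refine sub_eq_zero.1 (IsHausdorff.haus ‹_› (m - m') fun n => ?_)
  rw [SModEq.zero]
  have h0 : m - m' ∈ J ^ (n + 1) • (⊤ : Submodule A M) := by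
    rw [← σ_tloc_one_eq_zero_iff h M n, map_sub, map_sub, sub_eq_zero]
    refine (pr_ehat h _ _ _ n _ _).symm.trans (Eq.trans ?_ (pr_ehat h _ _ _ n _ _))
    exact congrArg _ e
  exact Submodule.smul_mono_left (Ideal.pow_le_pow_right n.le_succ) h0

theorem ghat_surjective (M : ModuleCat.{u} A) [IsPrecomplete J M] :
    Function.Surjective (ghat h M) := by
  intro x
  have hlift : ∀ n, ∃ m : M, pr h (TildeSec.pp J) (FSch.completionToX_comm _ _) (tilde M) n
      (TildeSec.D (1 : A)).1 x = ComplSec.σ h (TildeSec.pp J) (FSch.completionToX_comm _ _) (tilde M) n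
        (TildeSec.D (1 : A)).1 (TildeSec.tloc M 1 m) := by
    intro n
    obtain ⟨w, hw⟩ := ComplSec.σ_surjective h (TildeSec.pp J) (FSch.completionToX_comm _ _) (tilde M) n
      (TildeSec.D (1 : A)).2 (pr h (TildeSec.pp J) (FSch.completionToX_comm _ _) (tilde M) n _ x)
    obtain ⟨i, m, hm⟩ := TildeSec.exists_tloc M 1 w
    rw [one_pow, one_smul] at hm
    exact ⟨m, by rw [← hm, hw]⟩
  choose a ha using hlift
  have hstep : ∀ i j, i ≤ j → a j - a i ∈ J ^ (i + 1) • (⊤ : Submodule A M) := by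
    intro i j hij
    rw [← σ_tloc_one_eq_zero_iff h M i, map_sub, map_sub, ← ha, sub_eq_zero]
    exact (desc' h _ _ _ (tilde M) hij x _ (ha j)).symm
  obtain ⟨L, hL⟩ := IsPrecomplete.prec (I := J) (M := M) ‹_› (f := a) fun {i j} hij => by
    rw [SModEq.comm, SModEq.sub_mem]
    exact Submodule.smul_mono_left (Ideal.pow_le_pow_right i.le_succ) (hstep i j hij)
  refine ⟨L, RealLimSec.ext_of_π h _ _ _ _ fun n => ?_⟩
  refine (pr_ehat h _ _ _ n _ _).trans (Eq.trans ?_ (ha n).symm)
  rw [← sub_eq_zero, ← map_sub, ← map_sub, σ_tloc_one_eq_zero_iff]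
  have h1 := SModEq.sub_mem.1 (hL (n + 1))
  have h2 := hstep n (n + 1) n.le_succ
  have := Submodule.sub_mem _ h2 h1
  rwa [show a (n + 1) - a n - (a (n + 1) - L) = L - a n by abel] at this

theorem res_ghat (M : ModuleCat.{u} A) (f : A) (m : M) :
    CohPres.resF h _ ((TildeSec.pp J 0).preimage_mono
        (show (TildeSec.D f).1 ≤ (TildeSec.D (1 : A)).1 from
          le_top.trans PrimeSpectrum.basicOpen_one.ge)) (ghat h M m) =
      eh (tilde M) (TildeSec.D f).1 (TildeSec.tloc M f m) :=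
  (ehat_res _ _ _ _ _ _).trans (congrArg (eh (tilde M) _)
    (ConcreteCategory.congr_hom (tilde.toOpen_res M _ _ (homOfLE
      (le_top.trans PrimeSpectrum.basicOpen_one.ge))) m))

/-- Maps of completions of finite complete modules come from maps of modules. -/
theorem bijective (hJ : J.FG) (M N : ModuleCat.{u} A) [IsHausdorff J N] [IsPrecomplete J N] :
    Function.Bijective (fun u : M ⟶ N => cmM (tilde.map u)) := by
  refine ⟨fun u u' e => ?_, fun Φ => ?_⟩
  · refine ModuleCat.hom_ext (LinearMap.ext fun m => ghat_injective h N ?_)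
    exact (ghat_map h u m).symm.trans ((congrArg (fun ψ => secMap h ψ (top₁ J) (ghat h M m)) e).trans
      (ghat_map h u' m))
  choose u₀ hu₀ using fun m => ghat_surjective h N (secMap h Φ (top₁ J) (ghat h M m))
  let u : M ⟶ N := ModuleCat.ofHom
    { toFun := u₀
      map_add' := fun m m' => ghat_injective h N (by
        rw [ghat_add, hu₀, hu₀, hu₀, ghat_add, map_add])
      map_smul' := fun a m => ghat_injective h N (by
        rw [RingHom.id_apply, ghat_smul, hu₀, hu₀, ghat_smul, map_smul]) }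
  refine ⟨u, ?_⟩
  have key : ∀ (f : A) (m : M),
      secMap h (cmM (tilde.map u)) _ (eh (tilde M) (TildeSec.D f).1 (TildeSec.tloc M f m)) =
        secMap h Φ _ (eh (tilde M) (TildeSec.D f).1 (TildeSec.tloc M f m)) := by
    intro f m
    rw [← res_ghat h M f m]
    have e : ComplSec.pre (TildeSec.pp J) (TildeSec.D f).1 ≤ top₁ J :=
      (TildeSec.pp J 0).preimage_mono (le_top.trans PrimeSpectrum.basicOpen_one.ge)
    refine Eq.trans ?_ (LevelAdj.secMap_map Φ e (ghat h M m)).symm
    refine (LevelAdj.secMap_map (cmM (tilde.map u)) e (ghat h M m)).trans ?_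
    exact congrArg (CohPres.resF h _ e) ((ghat_map h u m).trans (hu₀ m))
  apply (SheafOfModules.toSheaf _).map_injective
  refine Sheaf.hom_ext (TopCat.Sheaf.hom_ext
    (F := ((SheafOfModules.toSheaf _).obj (cm (tilde M))).obj)
    (F' := ((SheafOfModules.toSheaf _).obj (cm (tilde N))))
    (TildeSec.isBasis_pre J) fun f => ?_)
  refine ConcreteCategory.hom_ext _ _ fun (x : sec h (cm (tilde M))
    (ComplSec.pre (TildeSec.pp J) (TildeSec.D f).1)) => ?_
  show secMap h (cmM (tilde.map u)) _ x = secMap h Φ _ x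
  refine RealLimSec.ext_of_π h _ _ _ _ fun k => ?_
  obtain ⟨w, hw⟩ := ComplSec.σ_surjective h (TildeSec.pp J) (FSch.completionToX_comm _ _) (tilde M) k
    (TildeSec.D f).2 (pr h (TildeSec.pp J) (FSch.completionToX_comm _ _) (tilde M) k _ x)
  obtain ⟨i, m, hm⟩ := TildeSec.exists_tloc M f w
  let r := algebraMap A Γ(Spec A, (TildeSec.D f).1) (f ^ i)
  have hr : IsUnit r := by
    show IsUnit (algebraMap A _ (f ^ i))
    rw [map_pow]
    exact (TildeSec.isUnit_algebraMap f).pow i
  let y := sh (TildeSec.D f).1 r • x - eh (tilde M) (TildeSec.D f).1 (TildeSec.tloc M f m)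
  have hy : pr h (TildeSec.pp J) (FSch.completionToX_comm _ _) (tilde M) k _ y = 0 := by
    rw [map_sub, map_smul, ← hw, shA_smul_σ, sub_eq_zero]
    refine Eq.trans ?_ (pr_ehat h _ _ _ k _ _).symm
    rw [algebraMap_smul, hm]
  have hfg : ((TildeSec.pp J 0).ker.ideal (TildeSec.D f)).FG := by
    rw [TildeSec.ker_ideal]
    exact Ideal.FG.map (hJ.pow) _
  have h1 := pr_secMap_eq_zero h _ _ (TildeSec.hker J) (TildeSec.D f) k hfg (cmM (tilde.map u)) y hy
  have h2 := pr_secMap_eq_zero h _ _ (TildeSec.hker J) (TildeSec.D f) k hfg Φ y hy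
  have h3 := h1.trans h2.symm
  simp only [y, map_sub, map_smul, key f m] at h3
  exact (IsUnit.smul_left_cancel (hr.map (sh (TildeSec.D f).1))).1 (sub_left_inj.1 h3)

/-- Bijectivity, for systems equal to the systems of inverse images. -/
theorem bijective_of_eq (hJ : J.FG) (M N : ModuleCat.{u} A) [IsHausdorff J N] [IsPrecomplete J N]
    {M' N' : FSch.ModSys (FSch.completionAlong (Spec A) (FSch.idealSpec A J))}
    (eM : M' = ComplSec.pullSys (TildeSec.pp J) (FSch.completionToX_comm _ _) (tilde M))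
    (eN : N' = ComplSec.pullSys (TildeSec.pp J) (FSch.completionToX_comm _ _) (tilde N))
    (φ : (M ⟶ N) → (M' ⟶ N'))
    (hφ : ∀ u, HEq (φ u) (ComplSec.pullSysMap (TildeSec.pp J) (FSch.completionToX_comm _ _) (tilde.map u))) :
    Function.Bijective (fun u => FSch.ModSys.realModMap h (φ u)) := by
  subst eM eN
  rw [show φ = fun u => ComplSec.pullSysMap (TildeSec.pp J) (FSch.completionToX_comm _ _) (tilde.map u)
    from funext fun u => eq_of_heq (hφ u)]
  exact bijective h hJ M N

variable {M₁ M₂ M₃ : ModuleCat.{u} A} (u : M₁ ⟶ M₂) (v : M₂ ⟶ M₃)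

/-- Completion reflects short exact sequences. -/
theorem shortExact_of_shortExact [IsHausdorff J M₁] [IsPrecomplete J M₁] [IsHausdorff J M₂]
    [IsHausdorff J M₃] [IsHausdorff J (M₃ ⧸ LinearMap.range v.hom)]
    (w : cmM (tilde.map u) ≫ cmM (tilde.map v) = 0) (hS : (ShortComplex.mk _ _ w).ShortExact) :
    ∃ w' : u ≫ v = 0, (ShortComplex.mk u v w').ShortExact := by
  have hc : ∀ {P : ModuleCat.{u} A} (q : M₂ ⟶ P) (m : M₁),
      secMap h (cmM (tilde.map u) ≫ cmM (tilde.map q)) (top₁ J) (ghat h M₁ m) = ghat h P (q (u m)) :=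
    fun q m => (congrArg (secMap h (cmM (tilde.map q)) (top₁ J)) (ghat_map h u m)).trans (ghat_map h q _)
  have w' : u ≫ v = 0 := ModuleCat.hom_ext (LinearMap.ext fun m => ghat_injective h M₃ (by
    refine (hc v m).symm.trans ?_
    rw [w]
    exact (ghat_zero h M₃).symm))
  haveI : Mono (cmM (tilde.map u)) := hS.mono_f
  haveI : Epi (cmM (tilde.map v)) := hS.epi_g
  refine ⟨w', ?_⟩
  have hu : Function.Injective u := fun m m' e => ghat_injective h M₁ (CohCons.secMap_injective
    (cmM (tilde.map u)) _ ((ghat_map h u m).trans ((congrArg (ghat h M₂) e).trans (ghat_map h u m').symm)))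
  let q : M₃ ⟶ ModuleCat.of A (M₃ ⧸ LinearMap.range v.hom) := ModuleCat.ofHom (Submodule.mkQ _)
  have hvq : v ≫ q = 0 := ModuleCat.hom_ext (LinearMap.ext fun m =>
    (Submodule.Quotient.mk_eq_zero _).2 ⟨m, rfl⟩)
  have hq : cmM (tilde.map q) = 0 := by
    rw [← cancel_epi (cmM (tilde.map v)), comp_zero]
    exact comp_eq_zero h _ _ _ _ (by rw [← tilde.map_comp, hvq, tilde.map_zero])
  have hv : Function.Surjective v := fun m => by
    have h0 : ghat h _ (q m) = ghat h (ModuleCat.of A (M₃ ⧸ LinearMap.range v.hom)) 0 := by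
      rw [← ghat_map h q m, hq, ghat_zero]
      rfl
    exact (Submodule.Quotient.mk_eq_zero _).1 (ghat_injective h
      (ModuleCat.of A (M₃ ⧸ LinearMap.range v.hom)) h0)
  refine ShortComplex.ShortExact.mk' ?_ ((ModuleCat.mono_iff_injective u).2 hu)
    ((ModuleCat.epi_iff_surjective v).2 hv)
  refine (ShortComplex.moduleCat_exact_iff _).2 fun n hn => ?_
  obtain ⟨t, ht⟩ := CohCons.exists_kernel (cmM (tilde.map v)) (ghat h M₂ n)
    ((ghat_map h v n).trans ((congrArg (ghat h M₃) hn).trans (ghat_zero h M₃)))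
  let l := hS.fIsKernel.lift (KernelFork.ofι (kernel.ι (cmM (tilde.map v))) (kernel.condition _))
  have hl : l ≫ cmM (tilde.map u) = kernel.ι (cmM (tilde.map v)) :=
    hS.fIsKernel.fac _ WalkingParallelPair.zero
  obtain ⟨m, hm⟩ := ghat_surjective h M₁ (secMap h l (top₁ J) t)
  refine ⟨m, ghat_injective h M₂ ?_⟩
  refine (ghat_map h u m).symm.trans (((congrArg (secMap h (cmM (tilde.map u)) (top₁ J)) hm)).trans ?_)
  exact (congrArg (fun ψ => secMap h ψ (top₁ J) t) hl).trans ht

/-- Reflection, for systems equal to the systems of inverse images. -/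
theorem shortExact_of_eq [IsHausdorff J M₁] [IsPrecomplete J M₁] [IsHausdorff J M₂]
    [IsHausdorff J M₃] [IsHausdorff J (M₃ ⧸ LinearMap.range v.hom)]
    {A' B' C' : FSch.ModSys (FSch.completionAlong (Spec A) (FSch.idealSpec A J))}
    (eA : A' = ComplSec.pullSys (TildeSec.pp J) (FSch.completionToX_comm _ _) (tilde M₁))
    (eB : B' = ComplSec.pullSys (TildeSec.pp J) (FSch.completionToX_comm _ _) (tilde M₂))
    (eC : C' = ComplSec.pullSys (TildeSec.pp J) (FSch.completionToX_comm _ _) (tilde M₃))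
    (f : A' ⟶ B') (g : B' ⟶ C')
    (hf : HEq f (ComplSec.pullSysMap (TildeSec.pp J) (FSch.completionToX_comm _ _) (tilde.map u)))
    (hg : HEq g (ComplSec.pullSysMap (TildeSec.pp J) (FSch.completionToX_comm _ _) (tilde.map v)))
    (hΔ : ∃ w : FSch.ModSys.realModMap h f ≫ FSch.ModSys.realModMap h g = 0,
      (ShortComplex.mk _ _ w).ShortExact) :
    ∃ w' : u ≫ v = 0, (ShortComplex.mk u v w').ShortExact := by
  subst eA eB eC
  cases eq_of_heq hf
  cases eq_of_heq hg
  obtain ⟨w, hS⟩ := hΔ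
  exact shortExact_of_shortExact h u v w hS

end Groth.Agent.Lib.FormalCompl.TildeHom
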