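import Groth.Agent.Lib.FormalCompl.Sec
import Groth.Agent.H30.IdealLemmas
import Mathlib.AlgebraicGeometry.Modules.Tilde

/-!
# Completion of the module sheaf of a finite module on an affine scheme (helper5)
-/

set_option autoImplicit false
set_option linter.style.haveILetI false

universe u

open CategoryTheory CategoryTheory.Limits AlgebraicGeometry TopologicalSpace Opposite
open Groth.Agent.H30 Groth.Agent.H30.RealLimSec
open Groth.Agent.Lib

namespace Groth.Agent.Lib.FormalCompl.TildeSec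

variable {A : CommRingCat.{u}} (J : Ideal A)

/-- The maps from the thickenings to the affine scheme. -/
noncomputable abbrev pp := FSch.completionToX (Spec A) (FSch.idealSpec A J)

instance isClosedImmersion_pp (k : ℕ) : IsClosedImmersion (pp J k) := inferInstance

theorem hker (k : ℕ) (U : (Spec A).affineOpens) :
    (pp J k).ker.ideal U = (pp J 0).ker.ideal U ^ (k + 1) := by
  rw [ComplSec.ker_completionToX, ComplSec.ker_completionToX, pow_one]

/-- A basic open as an affine open. -/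
noncomputable def D (f : A) : (Spec A).affineOpens :=
  ⟨PrimeSpectrum.basicOpen f, IsAffineOpen.Spec_basicOpen f⟩

theorem isBasis_pre :
    Opens.IsBasis (Set.range fun f : A => ComplSec.pre (pp J) (D f).1) := by
  rw [Opens.isBasis_iff_nbhd]
  intro O x hx
  obtain ⟨O', hO', e⟩ := (pp J 0).isClosedEmbedding.isEmbedding.isInducing.isOpen_iff.1 O.2
  have hxO : (pp J 0).base x ∈ O' := by
    have : x ∈ (pp J 0).base ⁻¹' O' := e.symm ▸ hx
    exact this
  obtain ⟨_, ⟨f, rfl⟩, hxU, hUO⟩ := Opens.isBasis_iff_nbhd.1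
    (PrimeSpectrum.isBasis_basic_opens (R := A))
    (show (pp J 0).base x ∈ (⟨O', hO'⟩ : (Spec A).Opens) from hxO)
  refine ⟨_, ⟨f, rfl⟩, hxU, fun y hy => ?_⟩
  have : y ∈ (pp J 0).base ⁻¹' O' := hUO hy
  show y ∈ O.carrier
  rw [← e]
  exact this

theorem ker_ideal (k : ℕ) (f : A) :
    (pp J k).ker.ideal (D f) = (J ^ (k + 1)).map (algebraMap A Γ(Spec A, (D f).1)) := by
  rw [ComplSec.ker_completionToX, Ideal.map_pow,
    ← (FSch.idealSpec A J).map_ideal (U := D f) (V := ⟨⊤, isAffineOpen_top _⟩) (le_top : (D f).1 ≤ ⊤),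
    H30.IdealLemmas.idealSpec_ideal_top, Ideal.map_map]
  rfl

theorem mem_ker_ideal_smul_iff (k : ℕ) (f : A) (F : (Spec A).Modules) (x : Γ(F, (D f).1)) :
    x ∈ (pp J k).ker.ideal (D f) • (⊤ : Submodule Γ(Spec A, (D f).1) Γ(F, (D f).1)) ↔
      x ∈ J ^ (k + 1) • (⊤ : Submodule A Γ(F, (D f).1)) := by
  rw [ker_ideal, ← Submodule.restrictScalars_mem A, Ideal.smul_restrictScalars,
    Submodule.restrictScalars_top]

theorem mem_pow_ker_zero_smul_iff (n : ℕ) (f : A) (F : (Spec A).Modules) (x : Γ(F, (D f).1)) :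
    x ∈ (pp J 0).ker.ideal (D f) ^ n • (⊤ : Submodule Γ(Spec A, (D f).1) Γ(F, (D f).1)) ↔
      x ∈ J ^ n • (⊤ : Submodule A Γ(F, (D f).1)) := by
  rw [ker_ideal, zero_add, pow_one, ← Ideal.map_pow, ← Submodule.restrictScalars_mem A,
    Ideal.smul_restrictScalars, Submodule.restrictScalars_top]

set_option backward.isDefEq.respectTransparency.types false in
theorem isUnit_algebraMap (f : A) : IsUnit (algebraMap A Γ(Spec A, (D f).1) f) :=
  IsLocalization.Away.algebraMap_isUnit (S := Γ(Spec A, PrimeSpectrum.basicOpen f)) f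

section Loc

variable (M : ModuleCat.{u} A)

/-- The localisation map to sections over a basic open. -/
noncomputable def tloc (f : A) : M →ₗ[A] Γ(tilde M, (D f).1) :=
  (tilde.toOpen M (PrimeSpectrum.basicOpen f)).hom

instance (f : A) : IsLocalizedModule.Away f (tloc M f) :=
  inferInstanceAs (IsLocalizedModule.Away f (tilde.toOpen M (PrimeSpectrum.basicOpen f)).hom)

theorem map_tloc {N : ModuleCat.{u} A} (φ : M ⟶ N) (f : A) (m : M) :
    (tilde.map φ).app (D f).1 (tloc M f m) = tloc N f (φ m) :=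
  ConcreteCategory.congr_hom (tilde.toOpen_map_app φ (PrimeSpectrum.basicOpen f)) m

theorem app_smul_A {F G : (Spec A).Modules} (φ : F ⟶ G) (U : (Spec A).Opens) (r : A) (x : Γ(F, U)) :
    φ.app U (r • x) = r • φ.app U x := by
  rw [Scheme.Modules.smul_Spec_def, Scheme.Modules.smul_Spec_def, Scheme.Modules.Hom.app_smul]

theorem exists_tloc (f : A) (x : Γ(tilde M, (D f).1)) :
    ∃ (i : ℕ) (m : M), f ^ i • x = tloc M f m := by
  obtain ⟨⟨m, ⟨_, i, rfl⟩⟩, h⟩ := IsLocalizedModule.surj (Submonoid.powers f) (tloc M f) x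
  exact ⟨i, m, h⟩

theorem smul_pow_cancel (f : A) (i : ℕ) {x y : Γ(tilde M, (D f).1)} (h : f ^ i • x = f ^ i • y) :
    x = y :=
  (IsLocalizedModule.smul_inj (tloc M f) (⟨f ^ i, i, rfl⟩ : Submonoid.powers f) x y).1 h

theorem exists_smul_pow_eq (f : A) (i : ℕ) (y : Γ(tilde M, (D f).1)) : ∃ x, f ^ i • x = y :=
  ((Module.End.isUnit_iff _).1
    (IsLocalizedModule.map_units (tloc M f) (⟨f ^ i, i, rfl⟩ : Submonoid.powers f))).2 y

theorem tloc_eq_iff (f : A) (m m' : M) :
    tloc M f m = tloc M f m' ↔ ∃ i : ℕ, f ^ i • m = f ^ i • m' := by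
  rw [IsLocalizedModule.eq_iff_exists (Submonoid.powers f)]
  constructor
  · rintro ⟨⟨_, i, rfl⟩, h⟩
    exact ⟨i, h⟩
  · rintro ⟨i, h⟩
    exact ⟨⟨f ^ i, i, rfl⟩, h⟩

theorem tloc_mem {f : A} (I : Ideal A) {m : M} (hm : m ∈ I • (⊤ : Submodule A M)) :
    tloc M f m ∈ I • (⊤ : Submodule A Γ(tilde M, (D f).1)) := by
  have := Submodule.mem_map_of_mem (f := tloc M f) hm
  rw [Submodule.map_smul''] at this
  exact Submodule.smul_mono le_rfl le_top this

theorem exists_mem_of_mem {f : A} (I : Ideal A) {x : Γ(tilde M, (D f).1)}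
    (hx : x ∈ I • (⊤ : Submodule A Γ(tilde M, (D f).1))) :
    ∃ (i : ℕ), ∃ m ∈ I • (⊤ : Submodule A M), f ^ i • x = tloc M f m := by
  refine Submodule.smul_induction_on hx (fun a ha y _ => ?_) ?_
  · obtain ⟨i, m, h⟩ := exists_tloc M f y
    exact ⟨i, a • m, Submodule.smul_mem_smul ha trivial, by rw [smul_comm, h, map_smul]⟩
  · rintro y z ⟨i, m, hm, hy⟩ ⟨j, n, hn, hz⟩
    refine ⟨i + j, f ^ j • m + f ^ i • n, add_mem (Submodule.smul_mem _ _ hm) (Submodule.smul_mem _ _ hn), ?_⟩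
    rw [map_add, map_smul, map_smul, ← hy, ← hz, smul_add, smul_smul, smul_smul, ← pow_add, ← pow_add,
      add_comm j i]

end Loc

section Maps

variable {M N : ModuleCat.{u} A} (φ : M ⟶ N) (f : A)

theorem surjective_app (hφ : Function.Surjective φ) : Function.Surjective ((tilde.map φ).app (D f).1) := by
  intro y
  obtain ⟨i, n, h⟩ := exists_tloc N f y
  obtain ⟨m, rfl⟩ := hφ n
  obtain ⟨x, hx⟩ := exists_smul_pow_eq M f i (tloc M f m)
  refine ⟨x, smul_pow_cancel N f i ?_⟩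
  rw [← app_smul_A, show f ^ i • x = tloc M f m from hx, map_tloc, h]

theorem exact_app {P : ModuleCat.{u} A} (ψ : N ⟶ P) (hex : ∀ n, ψ n = 0 → ∃ m, φ m = n)
    (b : Γ(tilde N, (D f).1)) (hb : (tilde.map ψ).app (D f).1 b = 0) :
    ∃ a, (tilde.map φ).app (D f).1 a = b := by
  obtain ⟨i, n, h⟩ := exists_tloc N f b
  have h0 : tloc P f (ψ n) = tloc P f 0 := by
    rw [← map_tloc, ← h, app_smul_A, hb, smul_zero, map_zero]
  obtain ⟨j, hj⟩ := (tloc_eq_iff P f _ _).1 h0
  obtain ⟨m, hm⟩ := hex (f ^ j • n) (by rw [map_smul, hj, smul_zero])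
  obtain ⟨x, hx⟩ := exists_smul_pow_eq M f (i + j) (tloc M f m)
  refine ⟨x, smul_pow_cancel N f (i + j) ?_⟩
  rw [← app_smul_A, show f ^ (i + j) • x = tloc M f m from hx, map_tloc, hm, map_smul, ← h, smul_smul,
    ← pow_add, add_comm j i]

theorem hasShift {s : ℕ}
    (hs : ∀ k, s ≤ k → ∀ m, φ m ∈ J ^ k • (⊤ : Submodule A N) →
      m ∈ J ^ (k - s) • (⊤ : Submodule A M)) :
    Sec.HasShift (pp J) (tilde.map φ) (D f) := by
  refine ⟨s, fun k hk a ha => ?_⟩
  rw [mem_pow_ker_zero_smul_iff] at ha ⊢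
  obtain ⟨i, m, hm⟩ := exists_tloc M f a
  obtain ⟨j, n, hn, hj⟩ := exists_mem_of_mem N _ ha
  have h1 : tloc N f (φ (f ^ j • m)) = tloc N f (f ^ i • n) := by
    rw [map_smul φ.hom, map_smul, map_smul, ← map_tloc, ← hm, app_smul_A, ← hj, smul_comm]
  obtain ⟨l, hl⟩ := (tloc_eq_iff N f _ _).1 h1
  have h2 : φ (f ^ l • f ^ j • m) ∈ J ^ k • (⊤ : Submodule A N) := by
    rw [map_smul, hl]
    exact Submodule.smul_mem _ _ (Submodule.smul_mem _ _ hn)
  have h3 := tloc_mem M (f := f) _ (hs k hk _ h2)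
  rw [map_smul, map_smul, ← hm, smul_smul, smul_smul, ← pow_add, ← pow_add] at h3
  obtain ⟨u, hu⟩ : IsUnit (algebraMap A Γ(Spec A, (D f).1) f) :=
    isUnit_algebraMap f
  rw [← algebraMap_smul Γ(Spec A, (D f).1) (f ^ (l + j + i)) a, map_pow, ← hu] at h3
  rw [← Submodule.restrictScalars_top (S := A) (R := Γ(Spec A, (D f).1)),
    ← Ideal.smul_restrictScalars, Submodule.restrictScalars_mem] at h3 ⊢
  rw [← Units.val_pow_eq_pow_val] at h3
  exact (Submodule.smul_mem_iff_of_isUnit _ (Units.isUnit _)).1 h3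

end Maps

/-- Completion preserves short exact sequences with the Artin–Rees property. -/
theorem shortExact (h : (FSch.completionAlong (Spec A) (FSch.idealSpec A J)).IsFormal)
    {M₁ M₂ M₃ : ModuleCat.{u} A} (u : M₁ ⟶ M₂) (v : M₂ ⟶ M₃) (w : u ≫ v = 0)
    (hv : Function.Surjective v) (hex : ∀ n, v n = 0 → ∃ m, u m = n)
    (hs : ∃ s, ∀ k, s ≤ k → ∀ m, u m ∈ J ^ k • (⊤ : Submodule A M₂) →
      m ∈ J ^ (k - s) • (⊤ : Submodule A M₁)) :
    ∃ w' : FSch.ModSys.realModMap h (FSch.complModMap (FSch.idealSpec A J) (tilde.map u)) ≫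
        FSch.ModSys.realModMap h (FSch.complModMap (FSch.idealSpec A J) (tilde.map v)) = 0,
      (ShortComplex.mk _ _ w').ShortExact := by
  obtain ⟨s, hs⟩ := hs
  haveI : ∀ k, IsClosedImmersion (FSch.completionToX (Spec A) (FSch.idealSpec A J) k) := fun k => inferInstance
  exact Sec.shortExact_of_eq h (pp J) (FSch.completionToX_comm (Spec A) (FSch.idealSpec A J)) (hker J)
    (tilde.map u) (tilde.map v) (by rw [← tilde.map_comp, w, tilde.map_zero]) D (isBasis_pre J)
    (fun f => hasShift J u f hs) (fun f => surjective_app v f hv) (fun f => exact_app u f v hex)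
    (ComplSec.complMod_eq (Spec A) _ _) (ComplSec.complMod_eq (Spec A) _ _)
    (ComplSec.complMod_eq (Spec A) _ _) _ _
    (ComplExact.hom_heq (ComplSec.complMod_eq (Spec A) _ _) (ComplSec.complMod_eq (Spec A) _ _) _ _
      fun _ => HEq.rfl)
    (ComplExact.hom_heq (ComplSec.complMod_eq (Spec A) _ _) (ComplSec.complMod_eq (Spec A) _ _) _ _
      fun _ => HEq.rfl)

end Groth.Agent.Lib.FormalCompl.TildeSec
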